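import Cfsg.Agent.H759.FusLift

/-!
Normal subgroups of fusion systems: a criterion by extension to normalizers, the criterion through a chain of
strongly closed subgroups, strongly closed abelian subgroups are normal, products of normal subgroups.
-/

set_option autoImplicit false

namespace Cfsg.Agent.H759

open Cfsg Cfsg.FusionSystem
open scoped commutatorElement

variable {Ω : Type*} [Group Ω] {S : Subgroup Ω} {F : FusionSystem S}

/-- An automorphism of a finite `p`-group that stabilizes a chain has `p`-power order. -/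
theorem exists_pow_eq_one_of_chain {R : Type*} [Group R] [Finite R] {p : ℕ} [Fact p.Prime]
    (hR : IsPGroup p R) (κ : MulAut R) (n : ℕ) (c : ℕ → Subgroup R) (h0 : c 0 = ⊤) (hn : c n = ⊥)
    (hinv : ∀ i ≤ n, ∀ x ∈ c i, κ x ∈ c i) (hst : ∀ i < n, ∀ x ∈ c i, x⁻¹ * κ x ∈ c (i + 1)) :
    ∃ k : ℕ, κ ^ p ^ k = 1 := by
  obtain ⟨e, he⟩ := IsPGroup.iff_card.1 hR
  have hexp : ∀ y : R, y ^ p ^ e = 1 := fun y => by rw [← he]; exact pow_card_eq_one'
  have hpow : ∀ i ≤ n, ∀ (j : ℕ), ∀ x ∈ c i, (κ ^ j) x ∈ c i := by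
    intro i hi j
    induction j with
    | zero => intro x hx; simpa using hx
    | succ j ih =>
      intro x hx
      rw [pow_succ, MulAut.mul_apply]
      exact ih _ (hinv i hi x hx)
  have hcos : ∀ i < n, ∀ (j : ℕ), ∀ x ∈ c i, x⁻¹ * (κ ^ j) x ∈ c (i + 1) := by
    intro i hi j
    induction j with
    | zero => intro x hx; simp
    | succ j ih =>
      intro x hx
      rw [pow_succ, MulAut.mul_apply]
      have h1 := ih (κ x) (hinv i hi.le x hx)
      have h2 := mul_mem (hst i hi x hx) h1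
      have h3 : x⁻¹ * κ x * ((κ x)⁻¹ * (κ ^ j) (κ x)) = x⁻¹ * (κ ^ j) (κ x) := by group
      rwa [h3] at h2
  have key : ∀ i ≤ n, ∃ k : ℕ, ∀ x ∈ c (n - i), (κ ^ p ^ k) x = x := by
    intro i
    induction i with
    | zero =>
      intro _
      refine ⟨0, fun x hx => ?_⟩
      rw [Nat.sub_zero, hn, Subgroup.mem_bot] at hx
      rw [hx, map_one]
    | succ i ih =>
      intro hi
      obtain ⟨k, hk⟩ := ih (by omega)
      refine ⟨k + e, fun x hx => ?_⟩
      have h1 : x⁻¹ * (κ ^ p ^ k) x ∈ c (n - i) := by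
        have := hcos (n - (i + 1)) (by omega) (p ^ k) x hx
        have h2 : n - (i + 1) + 1 = n - i := by omega
        rwa [h2] at this
      set l : MulAut R := κ ^ p ^ k with hl
      set y := x⁻¹ * l x with hy
      have hly : l y = y := hk y h1
      have hlx : l x = x * y := by rw [hy]; group
      have hlj : ∀ j : ℕ, (l ^ j) x = x * y ^ j := by
        intro j
        induction j with
        | zero => simp
        | succ j ihj =>
          rw [pow_succ', MulAut.mul_apply, ihj, map_mul, hlx, map_pow, hly, mul_assoc, pow_succ']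
      rw [pow_add, pow_mul, ← hl, hlj, hexp, mul_one]
  obtain ⟨k, hk⟩ := key n le_rfl
  refine ⟨k, MulEquiv.ext fun x => ?_⟩
  exact hk x (by rw [Nat.sub_self, h0]; trivial)

/-- A subgroup normal in the system is strongly closed. -/
theorem IsNormal.stronglyClosed {Q : Subgroup Ω} (hQ : F.IsNormal Q) : F.StronglyClosed Q := by
  refine ⟨hQ.1, fun R hR φ hφ x => ?_⟩
  obtain ⟨ψ, hψ, h1, h2⟩ := hQ.2 R φ hφ
  rw [← h1 x]
  have h3 : ψ (Subgroup.inclusion le_sup_left x) ∈ (Q.subgroupOf (R ⊔ Q)).map ψ := ⟨_, hR x.2, rfl⟩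
  exact (SetLike.ext_iff.1 h2 _).1 h3

/-- For a strongly closed subgroup of a finite `S`, extension of all maps over it is enough for normality. -/
theorem isNormal_of_extends [Finite S] {Q : Subgroup Ω} (hQ : F.StronglyClosed Q)
    (h : ∀ (P : Subgroup Ω) (φ : P →* Ω), φ ∈ F.Hom P →
      ∃ ψ ∈ F.Hom (P ⊔ Q), ∀ (x : P) (hx : (x : Ω) ∈ P ⊔ Q), ψ ⟨x, hx⟩ = φ x) :
    F.IsNormal Q := by
  refine ⟨hQ.1, fun P φ hφ => ?_⟩
  obtain ⟨ψ, hψ, h1⟩ := h P φ hφ
  refine ⟨ψ, hψ, fun x => h1 x _, ?_⟩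
  ext y
  constructor
  · rintro ⟨x, hx, rfl⟩
    exact StronglyClosed.apply_mem hQ hψ hx
  · intro hy
    obtain ⟨x, hx, h2⟩ := StronglyClosed.exists_preimage hQ hψ (le_sup_right : Q ≤ P ⊔ Q) hy
    exact ⟨⟨x, (le_sup_right : Q ≤ P ⊔ Q) hx⟩, hx, h2⟩

/-- **Normality criterion**: in a saturated fusion system, a strongly closed `Q` is normal if for every fully automized and
receptive `R` not containing `Q`, all `F`-automorphisms `α` of `R` and all `g ∈ N_Q(R)`, the conjugate `α c_g α⁻¹` is induced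
by an element of `S`. -/
theorem isNormal_of_forall [Finite S] {p : ℕ} [Fact p.Prime] (hS : IsPGroup p S)
    (hF : F.IsSaturated p) {Q : Subgroup Ω} (hQ : F.StronglyClosed Q)
    (hc : ∀ R : Subgroup Ω, F.IsFullyAutomized p R → F.IsReceptive R → ¬ Q ≤ R →
      ∀ α ∈ F.autGroup R, ∀ (g : Ω) (_ : g ∈ Q) (hgn : g ∈ Subgroup.normalizer (R : Set Ω)),
        α * conjAut R g hgn * α⁻¹ ∈ autInducedBy S R) :
    F.IsNormal Q := by
  apply isNormal_of_extends hQ
  refine saturated_induction F hS hF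
    (fun P φ => ∃ ψ ∈ F.Hom (P ⊔ Q), ∀ (x : P) (hx : (x : Ω) ∈ P ⊔ Q), ψ ⟨x, hx⟩ = φ x)
    ?_ ?_ ?_ ?_
  · -- restriction
    rintro P R φ χ hφ ⟨ψ, hψ, h⟩ hR hχ
    have hle : R ⊔ Q ≤ P ⊔ Q := sup_le_sup_right hR Q
    refine ⟨ψ.comp (Subgroup.inclusion hle), res_mem_comp F hψ hle, fun x hx => ?_⟩
    rw [hχ x]
    exact h ⟨x, hR x.2⟩ (hle hx)
  · -- composition
    rintro P R φ ψ χ hφ hψ ⟨φ', hφ', h⟩ ⟨ψ', hψ', h'⟩ hχ
    have hQT : ∀ y : (P ⊔ Q : Subgroup Ω), φ' y ∈ R ⊔ Q := by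
      apply hom_sup_mem
      · intro x hx hx'
        obtain ⟨h2, -⟩ := hχ ⟨x, hx⟩
        rw [h ⟨x, hx⟩ hx']
        exact (le_sup_left : R ≤ R ⊔ Q) h2
      · intro x hx hx'
        have h1 : φ' ⟨x, hx'⟩ ∈ Q := StronglyClosed.apply_mem hQ hφ' (x := ⟨x, hx'⟩) hx
        exact (le_sup_right : Q ≤ R ⊔ Q) h1
    refine ⟨ψ'.comp (φ'.codRestrict _ hQT), F.comp_mem hφ' hψ' hQT, fun x hx => ?_⟩
    obtain ⟨h2, h3⟩ := hχ x
    rw [h3]
    have h4 : φ x ∈ R ⊔ Q := (le_sup_left : R ≤ R ⊔ Q) h2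
    rw [← h' ⟨φ x, h2⟩ h4]
    show ψ' ⟨φ' ⟨x, hx⟩, _⟩ = ψ' ⟨φ x, h4⟩
    congr 1
    exact Subtype.ext (h x hx)
  · -- inverses
    rintro P R φ χ hφ ⟨φ', hφ', h⟩ hχ hinv
    have hle : R ⊔ Q ≤ φ'.range := by
      refine sup_le ?_ ?_
      · intro y hy
        obtain ⟨x, hx, -⟩ := hinv ⟨y, hy⟩
        refine ⟨⟨x, (le_sup_left : P ≤ P ⊔ Q) x.2⟩, ?_⟩
        rw [h x, hx]
      · intro t ht
        obtain ⟨x, hx, h1⟩ := StronglyClosed.exists_preimage hQ hφ' (le_sup_right : Q ≤ P ⊔ Q) ht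
        exact ⟨_, h1⟩
    obtain ⟨ψ, hψ, h1⟩ := exists_inv F hφ' hle
    refine ⟨ψ, hψ, fun y hy => ?_⟩
    obtain ⟨x, hx, h3⟩ := hinv y
    have hx' : (x : Ω) ∈ P ⊔ Q := (le_sup_left : P ≤ P ⊔ Q) x.2
    have h4 : φ' ⟨x, hx'⟩ ∈ R ⊔ Q := by rw [h x, hx]; exact hy
    have h5 := h1 _ h4
    have h6 : (⟨φ' ⟨x, hx'⟩, h4⟩ : (R ⊔ Q : Subgroup Ω)) = ⟨y, hy⟩ :=
      Subtype.ext ((h x hx').trans hx)
    rw [h6] at h5
    rw [h5, h3]
  · -- automorphisms
    intro R hRa hRr IH α hα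
    have hRS : R ≤ S := hRa.1
    have hfR : Finite R := Finite.of_injective _ (Subgroup.inclusion_injective hRS)
    have hαm := (mem_autGroup F hRS).1 hα
    by_cases hQR : Q ≤ R
    · have hle : R ⊔ Q ≤ R := sup_le le_rfl hQR
      exact ⟨_, res_mem_comp F hαm hle, fun x hx => rfl⟩
    · obtain ⟨κ, hκ, ψ, hψ, h⟩ := exists_extension F hS hRa hRr hαm (by
          ext y
          constructor
          · rintro ⟨x, rfl⟩; exact (α x).2
          · intro hy
            exact ⟨α⁻¹ ⟨y, hy⟩, by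
              show ((α (α⁻¹ ⟨y, hy⟩) : R) : Ω) = y
              rw [MulAut.apply_inv_self]⟩) ⊥ bot_le (by
          intro a _ k hk
          rw [Subgroup.mem_bot] at hk ⊢
          rw [hk]; simp)
        (Q ⊓ Subgroup.normalizer (R : Set Ω)) (inf_le_left.trans hQ.1) inf_le_right (by
          intro g hg
          have h1 := hc R hRa hRr hQR α hα g hg.1 hg.2
          obtain ⟨k, hkS, hk⟩ := mem_autInducedBy.1 h1
          refine ⟨1, one_mem _, k, hkS, ?_, ?_⟩
          · rw [Subgroup.mem_normalizer_iff]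
            intro x
            constructor
            · intro hx
              rw [← hk ⟨x, hx⟩]
              exact ((α * conjAut R g hg.2 * α⁻¹) ⟨x, hx⟩).2
            · intro hx
              obtain ⟨y, hy⟩ := (α * conjAut R g hg.2 * α⁻¹).surjective ⟨_, hx⟩
              have h2 := hk y
              rw [hy] at h2
              have h3 : x = y := mul_left_cancel (mul_right_cancel h2)
              rw [h3]; exact y.2
          · intro x hx hy
            have h2 := hk (α x)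
            rw [MulAut.mul_apply, MulAut.mul_apply, MulAut.inv_apply_self] at h2
            exact h2)
      have hlt : Nat.card R < Nat.card (R ⊔ (Q ⊓ Subgroup.normalizer (R : Set Ω)) : Subgroup Ω) := by
        have h1 : R < R ⊔ Q := lt_of_le_of_ne le_sup_left (fun h => hQR (h ▸ le_sup_right))
        obtain ⟨g, hg, hgQ, hgn⟩ := exists_mem_normalizer_not_mem hS (sup_le hRS hQ.1) h1
        obtain ⟨q, hq, t, ht, rfl⟩ :=
          (mem_sup_of_normalizes (hRS.trans (StronglyClosed.le_normalizer hQ))).1 hg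
        have htQ : t ∉ R := fun h => hgQ (mul_mem hq h)
        have htn : t ∈ Subgroup.normalizer (R : Set Ω) := by
          have h2 := mul_mem (inv_mem (Subgroup.le_normalizer hq)) hgn
          simpa [← mul_assoc] using h2
        have hlt2 : R < R ⊔ (Q ⊓ Subgroup.normalizer (R : Set Ω)) := by
          refine lt_of_le_of_ne le_sup_left (fun h => htQ ?_)
          rw [h]
          exact (le_sup_right : _ ≤ R ⊔ (Q ⊓ Subgroup.normalizer (R : Set Ω))) ⟨ht, htn⟩
        have hfN : Finite (R ⊔ (Q ⊓ Subgroup.normalizer (R : Set Ω)) : Subgroup Ω) :=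
          Finite.of_injective _ (Subgroup.inclusion_injective (F.le_of_mem hψ).1)
        refine lt_of_le_of_ne (Subgroup.card_le_of_le hlt2.le) (fun h => ?_)
        exact hlt2.ne (Subgroup.eq_of_le_of_card_ge hlt2.le h.ge)
      obtain ⟨ψ', hψ', h'⟩ := IH _ ψ hψ hlt
      have hle1 : R ≤ R ⊔ (Q ⊓ Subgroup.normalizer (R : Set Ω)) := le_sup_left
      have hle2 : R ⊔ Q ≤ (R ⊔ (Q ⊓ Subgroup.normalizer (R : Set Ω))) ⊔ Q :=
        sup_le_sup_right hle1 Q
      refine ⟨ψ'.comp (Subgroup.inclusion hle2), res_mem_comp F hψ' hle2, fun x hx => ?_⟩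
      have h1 := h' ⟨x, hle1 x.2⟩ (hle2 hx)
      have h2 := h x (α x).2 (hle1 x.2)
      rw [Subgroup.mem_bot] at hκ
      rw [hκ] at h2
      show ψ' ⟨x, _⟩ = _
      rw [h1, h2]
      rfl

/-- The largest-normal-`p`-subgroup argument: a normal `p`-subgroup of `Aut_F(R)` is contained in `Aut_S(R)` for `R` fully
automized. -/
theorem le_autInducedBy_of_normal {p : ℕ} [Fact p.Prime] {R : Subgroup Ω} [Finite R]
    (hRa : F.IsFullyAutomized p R) (K : Subgroup (MulAut R)) (hKA : K ≤ F.autGroup R)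
    (hKn : ∀ a ∈ F.autGroup R, ∀ k ∈ K, a * k * a⁻¹ ∈ K) (hK : IsPGroup p K) :
    K ≤ autInducedBy S R := by
  obtain ⟨T, hT⟩ := hRa.2
  have : Finite (MulAut R) := by
    have : Finite (R ≃ R) := inferInstance
    exact Finite.of_injective (fun α : MulAut R => α.toEquiv) (fun a b h => by
      ext x; exact congrArg (fun e : R ≃ R => ((e x : R) : Ω)) h)
  have : (K.subgroupOf (F.autGroup R)).Normal := ⟨fun n hn g => hKn g g.2 n hn⟩
  have hK' : IsPGroup p (K.subgroupOf (F.autGroup R)) :=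
    hK.comap_of_injective (F.autGroup R).subtype (F.autGroup R).subtype_injective
  have h1 := hK'.le_sylow_of_normal T
  intro k hk
  have h2 : (⟨k, hKA hk⟩ : F.autGroup R) ∈ (T : Subgroup (F.autGroup R)) := h1 hk
  rw [hT] at h2
  exact h2

/-- **Normality through a chain of strongly closed subgroups.** -/
theorem isNormal_of_chain [Finite S] {p : ℕ} [Fact p.Prime] (hS : IsPGroup p S)
    (hF : F.IsSaturated p) {Q : Subgroup Ω} (n : ℕ) (c : ℕ → Subgroup Ω) (h0 : c 0 = ⊥)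
    (hn : c n = Q) (hc : ∀ i ≤ n, F.StronglyClosed (c i))
    (hcomm : ∀ i < n, ⁅Q, c (i + 1)⁆ ≤ c i) : F.IsNormal Q := by
  have hQ : F.StronglyClosed Q := hn ▸ hc n le_rfl
  refine isNormal_of_forall hS hF hQ (fun R hRa hRr hQR α hα g hg hgn => ?_)
  have hRS : R ≤ S := hRa.1
  have hfR : Finite R := Finite.of_injective _ (Subgroup.inclusion_injective hRS)
  let K : Subgroup (MulAut R) :=
    { carrier := {κ | κ ∈ F.autGroup R ∧ (∀ x : R, (x : Ω)⁻¹ * (κ x : R) ∈ Q) ∧
        ∀ i < n, ∀ x : R, (x : Ω) ∈ c (i + 1) → (x : Ω)⁻¹ * (κ x : R) ∈ c i}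
      one_mem' := ⟨one_mem _, fun x => by simp, fun i _ x _ => by simp⟩
      mul_mem' := by
        rintro a b ⟨ha, ha', ha''⟩ ⟨hb, hb', hb''⟩
        have h1 : ∀ x : R, (x : Ω)⁻¹ * (a (b x) : R) = ((x : Ω)⁻¹ * (b x : R)) *
          (((b x : R) : Ω)⁻¹ * (a (b x) : R)) := fun x => by group
        refine ⟨mul_mem ha hb, fun x => ?_, fun i hi x hx => ?_⟩
        · rw [MulAut.mul_apply, h1]
          exact mul_mem (hb' x) (ha' _)
        · rw [MulAut.mul_apply, h1]
          refine mul_mem (hb'' i hi x hx) (ha'' i hi _ ?_)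
          exact StronglyClosed.apply_mem (hc (i + 1) hi) ((mem_autGroup F hRS).1 hb) hx
      inv_mem' := by
        rintro a ⟨ha, ha', ha''⟩
        refine ⟨inv_mem ha, fun x => ?_, fun i hi x hx => ?_⟩
        · have h1 := ha' (a⁻¹ x)
          rw [MulAut.apply_inv_self] at h1
          have h2 := inv_mem h1
          simpa using h2
        · have hx' : ((a⁻¹ x : R) : Ω) ∈ c (i + 1) :=
            StronglyClosed.apply_mem (hc (i + 1) hi) ((mem_autGroup F hRS).1 (inv_mem ha)) hx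
          have h1 := ha'' i hi (a⁻¹ x) hx'
          rw [MulAut.apply_inv_self] at h1
          have h2 := inv_mem h1
          simpa using h2 }
  have hKA : K ≤ F.autGroup R := fun k hk => hk.1
  have hKn : ∀ a ∈ F.autGroup R, ∀ k ∈ K, a * k * a⁻¹ ∈ K := by
    rintro a ha k ⟨hk, hk', hk''⟩
    have ham := (mem_autGroup F hRS).1 ha
    have ham' := (mem_autGroup F hRS).1 (inv_mem ha)
    refine ⟨mul_mem (mul_mem ha hk) (inv_mem ha), fun x => ?_, fun i hi x hx => ?_⟩
    · have h1 := hk' (a⁻¹ x)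
      have h2 : ((a ((a⁻¹ x)⁻¹ * k (a⁻¹ x)) : R) : Ω) ∈ Q :=
        StronglyClosed.apply_mem hQ ham (x := (a⁻¹ x)⁻¹ * k (a⁻¹ x)) h1
      rw [map_mul, map_inv, MulAut.apply_inv_self] at h2
      exact h2
    · have hx' : ((a⁻¹ x : R) : Ω) ∈ c (i + 1) := StronglyClosed.apply_mem (hc (i + 1) hi) ham' hx
      have h1 := hk'' i hi (a⁻¹ x) hx'
      have h2 : ((a ((a⁻¹ x)⁻¹ * k (a⁻¹ x)) : R) : Ω) ∈ c i :=
        StronglyClosed.apply_mem (hc i hi.le) ham (x := (a⁻¹ x)⁻¹ * k (a⁻¹ x)) h1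
      rw [map_mul, map_inv, MulAut.apply_inv_self] at h2
      exact h2
  have hKp : IsPGroup p K := by
    rintro ⟨κ, hκ, hκ', hκ''⟩
    -- the chain `R ≥ R ∩ c n ≥ ... ≥ R ∩ c 0 = 1`
    obtain ⟨k, hk⟩ := exists_pow_eq_one_of_chain (hS.to_le hRS) κ (n + 1)
      (fun i => if i = 0 then ⊤ else (c (n + 1 - i)).subgroupOf R) (by simp)
      (by
        show (if n + 1 = 0 then ⊤ else (c (n + 1 - (n + 1))).subgroupOf R) = ⊥
        rw [if_neg (by omega), Nat.sub_self, h0, Subgroup.bot_subgroupOf])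
      (by
        intro i hi x hx
        rcases Nat.eq_zero_or_pos i with h | h
        · simp [h]
        · have hi0 : i ≠ 0 := by omega
          simp only [if_neg hi0] at hx ⊢
          exact StronglyClosed.apply_mem (hc _ (by omega)) ((mem_autGroup F hRS).1 hκ) hx)
      (by
        intro i hi x hx
        rcases Nat.eq_zero_or_pos i with h | h
        · subst h
          simp only [zero_add, if_neg (show (1 : ℕ) ≠ 0 by omega), Nat.add_sub_cancel]
          rw [hn]
          exact hκ' x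
        · have hi0 : i ≠ 0 := by omega
          have hi1 : i + 1 ≠ 0 := by omega
          simp only [if_neg hi0, if_neg hi1] at hx ⊢
          have h1 : n + 1 - i = (n + 1 - (i + 1)) + 1 := by omega
          rw [h1] at hx
          exact hκ'' _ (by omega) x hx)
    exact ⟨k, Subtype.ext hk⟩
  have hKS := le_autInducedBy_of_normal hRa K hKA hKn hKp
  apply hKS
  apply hKn α hα
  refine ⟨autGroup_map F (conj_mem' F hRS (hQ.1 hg) (fun x => rfl)), fun x => ?_, fun i hi x hx => ?_⟩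
  · rw [coe_conjAut]
    have h1 : (x : Ω)⁻¹ * (g * x * g⁻¹) = ((x : Ω)⁻¹ * g * x) * g⁻¹ := by group
    rw [h1]
    exact mul_mem (StronglyClosed.conj_mem' hQ (hRS x.2) hg) (inv_mem hg)
  · rw [coe_conjAut]
    have h1 : ⁅g, (x : Ω)⁻¹⁆ ∈ ⁅Q, c (i + 1)⁆ := Subgroup.commutator_mem_commutator hg (inv_mem hx)
    have h2 := hcomm i hi h1
    have h3 : (x : Ω)⁻¹ * (g * x * g⁻¹) = (⁅g, (x : Ω)⁻¹⁆)⁻¹ := by
      rw [commutatorElement_def]; group
    rw [h3]
    exact inv_mem h2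

/-- A strongly closed abelian subgroup of a saturated fusion system is normal. -/
theorem isNormal_of_abelian [Finite S] {p : ℕ} [Fact p.Prime] (hS : IsPGroup p S)
    (hF : F.IsSaturated p) {Q : Subgroup Ω} (hQ : F.StronglyClosed Q) (hab : ⁅Q, Q⁆ = ⊥) :
    F.IsNormal Q := by
  refine isNormal_of_chain hS hF 1 (fun i => if i = 0 then ⊥ else Q) (by simp) (by simp) ?_ ?_
  · intro i hi
    rcases Nat.eq_zero_or_pos i with h | h
    · simp only [h, if_true]; exact StronglyClosed.bot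
    · simp only [if_neg (show i ≠ 0 by omega)]; exact hQ
  · intro i hi
    have : i = 0 := by omega
    subst this
    simp [hab]

/-- The product of two subgroups normal in the system is normal in it. -/
theorem IsNormal.sup [Finite S] {Q R : Subgroup Ω} (hQ : F.IsNormal Q) (hR : F.IsNormal R) :
    F.IsNormal (Q ⊔ R) := by
  have hext : ∀ (P : Subgroup Ω) (φ : P →* Ω), φ ∈ F.Hom P →
      ∃ ψ ∈ F.Hom (P ⊔ (Q ⊔ R)), ∀ (x : P) (hx : (x : Ω) ∈ P ⊔ (Q ⊔ R)), ψ ⟨x, hx⟩ = φ x := by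
    intro P φ hφ
    obtain ⟨ψ, hψ, h1, -⟩ := hQ.2 P φ hφ
    obtain ⟨χ, hχ, h2, -⟩ := hR.2 _ ψ hψ
    have hle : P ⊔ (Q ⊔ R) ≤ (P ⊔ Q) ⊔ R := by rw [sup_assoc]
    refine ⟨χ.comp (Subgroup.inclusion hle), res_mem_comp F hχ hle, fun x hx => ?_⟩
    rw [← h1 x, ← h2]
    rfl
  -- strong closure
  have hsc : F.StronglyClosed (Q ⊔ R) := by
    refine ⟨sup_le hQ.1 hR.1, fun P hP φ hφ x => ?_⟩
    obtain ⟨ψ, hψ, h1⟩ := hext P φ hφ
    have hx' : (x : Ω) ∈ P ⊔ (Q ⊔ R) := (le_sup_left : P ≤ P ⊔ (Q ⊔ R)) x.2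
    rw [← h1 x hx']
    have hQR : Q ⊔ R ≤ P ⊔ (Q ⊔ R) := le_sup_right
    have h2 := res_mem_comp F hψ hQR
    have h3 : ∀ y : (Q ⊔ R : Subgroup Ω), (ψ.comp (Subgroup.inclusion hQR)) y ∈ Q ⊔ R := by
      apply hom_sup_mem
      · intro y hy hy'
        exact (le_sup_left : Q ≤ Q ⊔ R)
          (StronglyClosed.apply_mem (IsNormal.stronglyClosed hQ) h2 (x := ⟨y, hy'⟩) hy)
      · intro y hy hy'
        exact (le_sup_right : R ≤ Q ⊔ R)
          (StronglyClosed.apply_mem (IsNormal.stronglyClosed hR) h2 (x := ⟨y, hy'⟩) hy)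
    exact h3 ⟨x, hP x.2⟩
  exact isNormal_of_extends hsc hext

theorem isNormal_bot [Finite S] : F.IsNormal ⊥ := by
  refine isNormal_of_extends StronglyClosed.bot (fun P φ hφ => ?_)
  have hle : P ⊔ ⊥ ≤ P := by simp
  exact ⟨φ.comp (Subgroup.inclusion hle), res_mem_comp F hφ hle, fun x hx => rfl⟩

/-- The largest normal subgroup is normal. -/
theorem isNormal_core [Finite S] : F.IsNormal F.core := by
  -- choose a normal subgroup of largest order
  have hfin : {Q : Subgroup Ω | F.IsNormal Q}.Finite := by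
    have h1 : {Q : Subgroup Ω | F.IsNormal Q} ⊆ {Q : Subgroup Ω | Q ≤ S} := fun Q hQ => hQ.1
    refine Set.Finite.subset ?_ h1
    have h2 : {Q : Subgroup Ω | Q ≤ S} = Set.range (fun H : Subgroup S => H.map S.subtype) := by
      ext Q
      constructor
      · intro hQ
        exact ⟨Q.subgroupOf S, by
          show (Q.subgroupOf S).map S.subtype = Q
          rw [Subgroup.subgroupOf_map_subtype, inf_eq_left.2 hQ]⟩
      · rintro ⟨H, rfl⟩
        exact Subgroup.map_subtype_le H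
    rw [h2]
    exact Set.finite_range _
  obtain ⟨Q, hQ, hmax⟩ := hfin.exists_maximal ⟨⊥, isNormal_bot (F := F)⟩
  have hcore : F.core = Q := by
    apply le_antisymm
    · refine sSup_le (fun R hR => ?_)
      have h1 : F.IsNormal (Q ⊔ R) := IsNormal.sup hQ hR
      exact le_sup_right.trans (hmax h1 le_sup_left)
    · exact le_sSup hQ
  rw [hcore]; exact hQ

theorem IsNormal.le_core {Q : Subgroup Ω} (hQ : F.IsNormal Q) : Q ≤ F.core := le_sSup hQ

end Cfsg.Agent.H759
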