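import Cfsg.Prelude.Def_FusionComponents

/-!
Basic facts on fusion systems: restriction, composition, inverses (pointwise forms), membership in the
automorphism groups, the extension lemma for a fully automized and receptive subgroup, and a downward
induction principle for maps of a saturated fusion system.
-/

set_option autoImplicit false

namespace Cfsg.Agent.H759

open Cfsg Cfsg.FusionSystem

section basics

variable {Ω : Type*} [Group Ω] {S : Subgroup Ω} (F : FusionSystem S)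

theorem incl_mem {P : Subgroup Ω} (hP : P ≤ S) : P.subtype ∈ F.Hom P := by
  have h := F.conj_mem (g := 1) hP (one_mem S)
  have h2 : conjHom P 1 = P.subtype := by
    ext x
    show (1 : Ω) * x * (1 : Ω)⁻¹ = x
    simp
  rwa [h2] at h

theorem incl_mem' {P : Subgroup Ω} (hP : P ≤ S) {φ : P →* Ω} (h : ∀ x : P, φ x = x) :
    φ ∈ F.Hom P := by
  have h2 : φ = P.subtype := by
    ext x; exact h x
  rw [h2]; exact incl_mem F hP

theorem conj_mem' {P : Subgroup Ω} (hP : P ≤ S) {g : Ω} (hg : g ∈ S) {φ : P →* Ω}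
    (h : ∀ x : P, φ x = g * x * g⁻¹) : φ ∈ F.Hom P := by
  have h2 : φ = conjHom P g := by
    ext x; exact h x
  rw [h2]; exact F.conj_mem hP hg

theorem comp_mem' {P Q : Subgroup Ω} {φ : P →* Ω} {ψ : Q →* Ω} (hφ : φ ∈ F.Hom P)
    (hψ : ψ ∈ F.Hom Q) {χ : P →* Ω} (hχ : ∀ x : P, ∃ h : φ x ∈ Q, χ x = ψ ⟨φ x, h⟩) :
    χ ∈ F.Hom P := by
  have h := F.comp_mem hφ hψ (fun x => (hχ x).1)
  have h2 : χ = ψ.comp (φ.codRestrict Q (fun x => (hχ x).1)) := by
    ext x
    obtain ⟨h1, h2⟩ := hχ x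
    rw [h2]; rfl
  rw [h2]; exact h

theorem res_mem {P R : Subgroup Ω} {φ : P →* Ω} (hφ : φ ∈ F.Hom P) (hR : R ≤ P)
    {χ : R →* Ω} (hχ : ∀ x : R, χ x = φ ⟨x, hR x.2⟩) : χ ∈ F.Hom R :=
  comp_mem' F (incl_mem F (hR.trans (F.le_of_mem hφ).1)) hφ (fun x => ⟨hR x.2, hχ x⟩)

theorem res_mem_comp {P R : Subgroup Ω} {φ : P →* Ω} (hφ : φ ∈ F.Hom P) (hR : R ≤ P) :
    φ.comp (Subgroup.inclusion hR) ∈ F.Hom R :=
  res_mem F hφ hR (fun _ => rfl)

/-- Two homs with the same source and pointwise equal. -/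
theorem mem_congr {P : Subgroup Ω} {φ ψ : P →* Ω} (hφ : φ ∈ F.Hom P) (h : ∀ x, ψ x = φ x) :
    ψ ∈ F.Hom P := by
  have : ψ = φ := MonoidHom.ext h
  rw [this]; exact hφ

/-- The inverse of a map, restricted to any subgroup of the image. -/
theorem exists_inv {P R : Subgroup Ω} {φ : P →* Ω} (hφ : φ ∈ F.Hom P) (hR : R ≤ φ.range) :
    ∃ ψ ∈ F.Hom R, ∀ (x : P) (hx : φ x ∈ R), ψ ⟨φ x, hx⟩ = (x : Ω) := by
  obtain ⟨ψ, hψ, h⟩ := F.inv_mem hφ
  refine ⟨ψ.comp (Subgroup.inclusion hR), res_mem_comp F hψ hR, fun x hx => ?_⟩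
  exact h x

/-- A hom which is pointwise inverse to a map of the system is a map of the system. -/
theorem inv_mem' {P R : Subgroup Ω} {φ : P →* Ω} (hφ : φ ∈ F.Hom P) {χ : R →* Ω}
    (hχ : ∀ y : R, ∃ x : P, φ x = y ∧ χ y = x) : χ ∈ F.Hom R := by
  have hR : R ≤ φ.range := by
    intro y hy
    obtain ⟨x, hx, -⟩ := hχ ⟨y, hy⟩
    exact ⟨x, hx⟩
  obtain ⟨ψ, hψ, h⟩ := exists_inv F hφ hR
  refine mem_congr F hψ (fun y => ?_)
  obtain ⟨x, hx, hy⟩ := hχ y
  have hx' : φ x ∈ R := by rw [hx]; exact y.2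
  have h3 := h x hx'
  have h4 : (⟨φ x, hx'⟩ : R) = y := Subtype.ext hx
  rw [h4] at h3
  rw [hy, h3]

end basics

section isoOf

variable {Ω : Type*} [Group Ω]

/-- The isomorphism `P ≃* Q` given by an injective `φ : P →* Ω` with range `Q`. -/
noncomputable def isoOf {P Q : Subgroup Ω} (φ : P →* Ω) (hi : Function.Injective φ)
    (hr : φ.range = Q) : P ≃* Q :=
  (MonoidHom.ofInjective hi).trans (MulEquiv.subgroupCongr hr)

@[simp] theorem coe_isoOf {P Q : Subgroup Ω} (φ : P →* Ω) (hi : Function.Injective φ)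
    (hr : φ.range = Q) (x : P) : ((isoOf φ hi hr x : Q) : Ω) = φ x := rfl

theorem apply_isoOf_symm {P Q : Subgroup Ω} (φ : P →* Ω) (hi : Function.Injective φ)
    (hr : φ.range = Q) (y : Q) : φ ((isoOf φ hi hr).symm y) = (y : Ω) := by
  rw [← coe_isoOf φ hi hr, MulEquiv.apply_symm_apply]

theorem isoOf_symm_apply {P Q : Subgroup Ω} (φ : P →* Ω) (hi : Function.Injective φ)
    (hr : φ.range = Q) (x : P) (h : φ x ∈ Q) : (isoOf φ hi hr).symm ⟨φ x, h⟩ = x := by
  rw [MulEquiv.symm_apply_eq]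
  exact Subtype.ext rfl

end isoOf

section aut

variable {Ω : Type*} [Group Ω] {S : Subgroup Ω} (F : FusionSystem S)

theorem mem_autGroup {P : Subgroup Ω} (hP : P ≤ S) {α : MulAut P} :
    α ∈ F.autGroup P ↔ P.subtype.comp α.toMonoidHom ∈ F.Hom P := by
  constructor
  · intro h
    refine Subgroup.closure_induction (p := fun α _ => P.subtype.comp α.toMonoidHom ∈ F.Hom P)
      (fun x hx => hx) ?_ ?_ ?_ h
    · exact incl_mem' F hP (fun x => rfl)
    · intro α β _ _ hα hβ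
      exact comp_mem' F hβ hα (fun x => ⟨(β x).2, rfl⟩)
    · intro α _ hα
      refine inv_mem' F hα (fun y => ⟨α⁻¹ y, ?_, rfl⟩)
      show ((α (α⁻¹ y) : P) : Ω) = y
      rw [MulAut.apply_inv_self]
  · intro h
    exact Subgroup.subset_closure h

theorem autGroup_map {P : Subgroup Ω} {α : MulAut P} (h : P.subtype.comp α.toMonoidHom ∈ F.Hom P) :
    α ∈ F.autGroup P := Subgroup.subset_closure h

/-- An element of `F.autGroup P` from a map of `F` with image `P`. -/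
theorem isoOf_mem_autGroup {P : Subgroup Ω} {φ : P →* Ω} (hφ : φ ∈ F.Hom P) (hr : φ.range = P) :
    isoOf φ (F.injective_of_mem hφ) hr ∈ F.autGroup P := by
  apply autGroup_map
  exact mem_congr F hφ (fun x => rfl)

theorem mem_autInducedBy {K P : Subgroup Ω} {α : MulAut P} :
    α ∈ autInducedBy K P ↔ ∃ g ∈ K, ∀ x : P, ((α x : P) : Ω) = g * (x : Ω) * g⁻¹ := by
  constructor
  · intro h
    refine Subgroup.closure_induction
      (p := fun α _ => ∃ g ∈ K, ∀ x : P, ((α x : P) : Ω) = g * (x : Ω) * g⁻¹)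
      (fun x hx => hx) ?_ ?_ ?_ h
    · exact ⟨1, one_mem K, fun x => by simp⟩
    · rintro α β - - ⟨g, hg, hα⟩ ⟨k, hk, hβ⟩
      refine ⟨g * k, mul_mem hg hk, fun x => ?_⟩
      show ((α (β x) : P) : Ω) = _
      rw [hα, hβ]; group
    · rintro α - ⟨g, hg, hα⟩
      refine ⟨g⁻¹, inv_mem hg, fun x => ?_⟩
      have h1 := hα (α⁻¹ x)
      rw [MulAut.apply_inv_self] at h1
      rw [h1]; group
  · intro h
    exact Subgroup.subset_closure h

theorem autInducedBy_le_autGroup {P : Subgroup Ω} (hP : P ≤ S) :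
    autInducedBy S P ≤ F.autGroup P := by
  intro α hα
  obtain ⟨g, hg, h⟩ := mem_autInducedBy.1 hα
  exact autGroup_map F (conj_mem' F hP hg h)

/-- conjugation by an element of the normalizer, as an automorphism -/
noncomputable def conjAut (P : Subgroup Ω) (g : Ω) (hg : g ∈ Subgroup.normalizer (P : Set Ω)) : MulAut P :=
  isoOf (conjHom P g) (fun a b hab => by
    have h : g * (a : Ω) * g⁻¹ = g * (b : Ω) * g⁻¹ := hab
    exact Subtype.ext (mul_left_cancel (mul_right_cancel h))) (by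
    ext y
    constructor
    · rintro ⟨x, rfl⟩
      exact (Subgroup.mem_normalizer_iff.1 hg x).1 x.2
    · intro hy
      refine ⟨⟨g⁻¹ * y * g, ?_⟩, ?_⟩
      · have := (Subgroup.mem_normalizer_iff.1 hg (g⁻¹ * y * g)).2
        apply this
        simpa [mul_assoc] using hy
      · show g * (g⁻¹ * y * g) * g⁻¹ = y
        group)

theorem coe_conjAut {P : Subgroup Ω} {g : Ω} (hg : g ∈ Subgroup.normalizer (P : Set Ω)) (x : P) :
    ((conjAut P g hg x : P) : Ω) = g * x * g⁻¹ := rfl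

theorem mem_extender {P : Subgroup Ω} {φ : P →* Ω} {g : Ω} :
    g ∈ extender S P φ ↔ g ∈ S ∧ g ∈ Subgroup.normalizer (P : Set Ω) ∧
      ∃ h ∈ S, ∀ (x : P) (hx : g * (x : Ω) * g⁻¹ ∈ P), φ ⟨g * x * g⁻¹, hx⟩ = h * φ x * h⁻¹ := by
  constructor
  · intro h
    refine Subgroup.closure_induction
      (p := fun g _ => g ∈ S ∧ g ∈ Subgroup.normalizer (P : Set Ω) ∧
      ∃ h ∈ S, ∀ (x : P) (hx : g * (x : Ω) * g⁻¹ ∈ P), φ ⟨g * x * g⁻¹, hx⟩ = h * φ x * h⁻¹)
      (fun x hx => hx) ?_ ?_ ?_ h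
    · refine ⟨one_mem S, one_mem _, 1, one_mem S, fun x hx => ?_⟩
      have : (⟨1 * (x : Ω) * 1⁻¹, hx⟩ : P) = x := Subtype.ext (by simp)
      rw [this]; simp
    · rintro g k - - ⟨hg, hgn, a, ha, hga⟩ ⟨hk, hkn, b, hb, hkb⟩
      refine ⟨mul_mem hg hk, mul_mem hgn hkn, a * b, mul_mem ha hb, fun x hx => ?_⟩
      have h1 : k * (x : Ω) * k⁻¹ ∈ P := (Subgroup.mem_normalizer_iff.1 hkn x).1 x.2
      have h2 : g * (k * (x : Ω) * k⁻¹) * g⁻¹ ∈ P := (Subgroup.mem_normalizer_iff.1 hgn _).1 h1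
      have h3 := hga ⟨_, h1⟩ h2
      have h4 := hkb x h1
      have h5 : (⟨g * k * (x : Ω) * (g * k)⁻¹, hx⟩ : P) = ⟨g * (k * (x : Ω) * k⁻¹) * g⁻¹, h2⟩ :=
        Subtype.ext (by group)
      rw [h5, h3, h4]; group
    · rintro g - ⟨hg, hgn, a, ha, hga⟩
      refine ⟨inv_mem hg, inv_mem hgn, a⁻¹, inv_mem ha, fun x hx => ?_⟩
      have h2 : g * (g⁻¹ * (x : Ω) * g⁻¹⁻¹) * g⁻¹ ∈ P := (Subgroup.mem_normalizer_iff.1 hgn _).1 hx
      have h1 := hga ⟨g⁻¹ * (x : Ω) * g⁻¹⁻¹, hx⟩ h2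
      have h3 : (⟨g * (g⁻¹ * (x : Ω) * g⁻¹⁻¹) * g⁻¹, h2⟩ : P) = x := Subtype.ext (by group)
      rw [h3] at h1
      rw [h1]; group
  · intro h
    exact Subgroup.subset_closure h

end aut

section sylow

/-- A `p`-subgroup of `K B`, `K` normal and `B` Sylow, is conjugate into `B` by an element of `K`. -/
theorem exists_conj_le_of_le_sup {A : Type*} [Group A] [Finite A] {p : ℕ} [Fact p.Prime]
    (B : Sylow p A) (K : Subgroup A) [K.Normal] (H : Subgroup A) (hH : IsPGroup p H)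
    (hle : H ≤ K ⊔ (B : Subgroup A)) : ∃ k ∈ K, ∀ h ∈ H, k * h * k⁻¹ ∈ (B : Subgroup A) := by
  have hBM : (B : Subgroup A) ≤ K ⊔ (B : Subgroup A) := le_sup_right
  set M : Subgroup A := K ⊔ (B : Subgroup A) with hM
  let B' : Sylow p M := B.subtype hBM
  have hH' : IsPGroup p (H.subgroupOf M) := by
    have := hH.comap_of_injective M.subtype M.subtype_injective
    exact this
  obtain ⟨C, hC⟩ := hH'.exists_le_sylow
  obtain ⟨m, hm⟩ := MulAction.exists_smul_eq M C B'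
  obtain ⟨k, hk, b, hb, hkb⟩ := Subgroup.mem_sup_of_normal_left.1 m⁻¹.2
  refine ⟨k⁻¹, inv_mem hk, fun h hh => ?_⟩
  have h1 : (⟨h, hle hh⟩ : M) ∈ (C : Subgroup M) := hC (by exact hh)
  have h2 : m * ⟨h, hle hh⟩ * m⁻¹ ∈ (B' : Subgroup M) := by
    rw [← hm]
    rw [Sylow.coe_subgroup_smul]
    exact Subgroup.smul_mem_pointwise_smul _ (MulAut.conj m) _ h1
  have h3 : (m : A) * h * (m : A)⁻¹ ∈ (B : Subgroup A) := h2
  have h4 : (m : A) = b⁻¹ * k⁻¹ := by
    have : ((m⁻¹ : M) : A) = k * b := hkb.symm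
    have h5 : (m : A)⁻¹ = k * b := this
    rw [← inv_inv (m : A), h5]; group
  rw [h4] at h3
  have h5 := mul_mem (mul_mem hb h3) (inv_mem hb)
  have h6 : b * (b⁻¹ * k⁻¹ * h * (b⁻¹ * k⁻¹)⁻¹) * b⁻¹ = k⁻¹ * h * k⁻¹⁻¹ := by group
  rwa [h6] at h5

/-- The version for a subgroup `A` of a group `G`, with `B` a subgroup of `G`. -/
theorem exists_conj_le_of_le_sup' {G : Type*} [Group G] [Finite G] {p : ℕ} [Fact p.Prime]
    {A : Subgroup G} (B : Subgroup G) (hB : ∃ R : Sylow p A, (R : Subgroup A) = B.subgroupOf A)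
    (K : Subgroup G) (hKA : K ≤ A) (hK : ∀ a ∈ A, ∀ k ∈ K, a * k * a⁻¹ ∈ K)
    (H : Subgroup G) (hH : IsPGroup p H)
    (hle : ∀ h ∈ H, ∃ k ∈ K, ∃ b ∈ B, b ∈ A ∧ h = k * b) :
    ∃ k ∈ K, ∀ h ∈ H, k * h * k⁻¹ ∈ B := by
  obtain ⟨R, hR⟩ := hB
  have : (K.subgroupOf A).Normal := ⟨fun n hn g => hK g g.2 n hn⟩
  have hHA : H ≤ A := by
    intro h hh
    obtain ⟨k, hk, b, hb, hbA, rfl⟩ := hle h hh
    exact mul_mem (hKA hk) hbA
  have hH' : IsPGroup p (H.subgroupOf A) :=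
    hH.comap_of_injective A.subtype A.subtype_injective
  obtain ⟨k, hk, h⟩ := exists_conj_le_of_le_sup R (K.subgroupOf A) (H.subgroupOf A) hH' (by
    intro h hh
    obtain ⟨k, hk, b, hb, hbA, hkb⟩ := hle h hh
    have h1 : (⟨k, hKA hk⟩ : A) ∈ K.subgroupOf A := hk
    have h2 : (⟨b, hbA⟩ : A) ∈ (R : Subgroup A) := by rw [hR]; exact hb
    have h3 : h = ⟨k, hKA hk⟩ * ⟨b, hbA⟩ := Subtype.ext hkb
    rw [h3]
    exact Subgroup.mul_mem_sup h1 h2)
  refine ⟨k, hk, fun x hx => ?_⟩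
  have := h ⟨x, hHA hx⟩ hx
  rw [hR] at this
  exact this

/-- In a finite `p`-group, normalizers grow. -/
theorem exists_mem_normalizer_not_mem {Ω : Type*} [Group Ω] {S : Subgroup Ω} [Finite S] {p : ℕ}
    [Fact p.Prime] (hS : IsPGroup p S) {P R : Subgroup Ω} (hRS : R ≤ S) (hPR : P < R) :
    ∃ g ∈ R, g ∉ P ∧ g ∈ Subgroup.normalizer (P : Set Ω) := by
  have : Finite R := Finite.of_injective _ (Subgroup.inclusion_injective hRS)
  have hR : IsPGroup p R := hS.to_le hRS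
  have := hR.isNilpotent
  have hnc : NormalizerCondition R := Group.normalizerCondition_of_isNilpotent
  have hlt : P.subgroupOf R < ⊤ := by
    rw [lt_top_iff_ne_top]
    intro h
    rw [Subgroup.subgroupOf_eq_top] at h
    exact absurd hPR (not_lt_of_ge h)
  have h1 := hnc _ hlt
  obtain ⟨g, hg1, hg2⟩ := SetLike.exists_of_lt h1
  refine ⟨g, g.2, fun h => hg2 h, ?_⟩
  rw [Subgroup.mem_normalizer_iff] at hg1 ⊢
  intro x
  constructor
  · intro hx
    have := (hg1 ⟨x, hPR.le hx⟩).1 hx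
    exact this
  · intro hx
    have hxR : x ∈ R := by
      have h2 : g * x * g⁻¹ ∈ R := hPR.le hx
      have h3 : (g : Ω)⁻¹ * (g * x * (g : Ω)⁻¹) * g ∈ R := mul_mem (mul_mem (inv_mem g.2) h2) g.2
      have h4 : (g : Ω)⁻¹ * (g * x * (g : Ω)⁻¹) * g = x := by group
      rwa [h4] at h3
    exact (hg1 ⟨x, hxR⟩).2 hx

end sylow

section extension

variable {Ω : Type*} [Group Ω] {S : Subgroup Ω} (F : FusionSystem S)

theorem le_normalizerIn {P : Subgroup Ω} (hP : P ≤ S) : P ≤ normalizerIn S P :=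
  le_inf hP Subgroup.le_normalizer

/-- The kernel-type extension lemma: `Q` fully automized and receptive, `χ : P → Q` an isomorphism of the system,
`K` a normal subgroup of `Aut_F(Q)`, and `N ≤ N_S(P)` such that, for every `g ∈ N`, the action of `g` on `P`
transported to `Q` lies in `K Aut_S(Q)`. Then for some `κ ∈ K` the map `κ χ` extends to `P ⊔ N`. -/
theorem exists_extension [Finite S] {p : ℕ} [Fact p.Prime] (hS : IsPGroup p S)
    {Q : Subgroup Ω} (hQa : F.IsFullyAutomized p Q) (hQr : F.IsReceptive Q)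
    {P : Subgroup Ω} {χ : P →* Ω} (hχ : χ ∈ F.Hom P) (hr : χ.range = Q)
    (K : Subgroup (MulAut Q)) (hKA : K ≤ F.autGroup Q)
    (hK : ∀ a ∈ F.autGroup Q, ∀ k ∈ K, a * k * a⁻¹ ∈ K)
    (N : Subgroup Ω) (hNS : N ≤ S) (hN : N ≤ Subgroup.normalizer (P : Set Ω))
    (hNK : ∀ g ∈ N, ∃ k ∈ K, ∃ h ∈ S, h ∈ Subgroup.normalizer (Q : Set Ω) ∧
      ∀ (x : P) (hx : g * (x : Ω) * g⁻¹ ∈ P) (hy : h * χ x * h⁻¹ ∈ Q),
        χ ⟨g * x * g⁻¹, hx⟩ = ((k ⟨h * χ x * h⁻¹, hy⟩ : Q) : Ω)) :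
    ∃ k ∈ K, ∃ ψ ∈ F.Hom (P ⊔ N), ∀ (x : P) (hx : χ x ∈ Q) (hx' : (x : Ω) ∈ P ⊔ N),
      ψ ⟨x, hx'⟩ = ((k ⟨χ x, hx⟩ : Q) : Ω) := by
  have hQS : Q ≤ S := hQa.1
  have hPS : P ≤ S := (F.le_of_mem hχ).1
  have : Finite Q := Finite.of_injective _ (Subgroup.inclusion_injective hQS)
  have : Finite (MulAut Q) := by
    have : Finite (Q ≃ Q) := inferInstance
    exact Finite.of_injective (fun α : MulAut Q => α.toEquiv) (fun a b h => by
      ext x; exact congrArg (fun e : Q ≃ Q => ((e x : Q) : Ω)) h)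
  have hinj := F.injective_of_mem hχ
  set e : P ≃* Q := isoOf χ hinj hr with he
  -- the group of automorphisms of `Q` coming from `N`
  let f : N →* MulAut Q :=
    { toFun := fun g => (MulAut.congr e) (conjAut P g (hN g.2))
      map_one' := by
        ext x
        simp only [MulAut.congr_apply, MulEquiv.trans_apply, MulAut.one_apply]
        have : conjAut P ((1 : N) : Ω) (hN (1 : N).2) (e.symm x) = e.symm x := by
          apply Subtype.ext
          rw [coe_conjAut]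
          simp
        rw [this]; simp
      map_mul' := fun a b => by
        ext x
        simp only [MulAut.congr_apply, MulEquiv.trans_apply, MulAut.mul_apply]
        congr 2
        apply Subtype.ext
        rw [coe_conjAut, MulEquiv.symm_apply_apply, coe_conjAut, coe_conjAut]
        simp only [Subgroup.coe_mul, mul_inv_rev, mul_assoc] }
  have hf : ∀ (g : N) (x : P) (hx : (g : Ω) * (x : Ω) * (g : Ω)⁻¹ ∈ P),
      ((f g (e x) : Q) : Ω) = χ ⟨g * x * (g : Ω)⁻¹, hx⟩ := by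
    intro g x hx
    show ((e (conjAut P g (hN g.2) (e.symm (e x))) : Q) : Ω) = _
    rw [MulEquiv.symm_apply_apply]
    rfl
  have hNp : IsPGroup p N := hS.to_le hNS
  have hHp : IsPGroup p f.range := by
    intro x
    obtain ⟨y, g, rfl⟩ := x
    obtain ⟨k, hk⟩ := hNp g
    refine ⟨k, Subtype.ext ?_⟩
    show (f g) ^ p ^ k = 1
    rw [← map_pow, hk, map_one]
  obtain ⟨k, hk, hk2⟩ := exists_conj_le_of_le_sup' (A := F.autGroup Q) (autInducedBy S Q) hQa.2
    K hKA hK f.range hHp (by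
      rintro _ ⟨g, rfl⟩
      obtain ⟨k, hk, h, hhS, hhN, hh⟩ := hNK g g.2
      refine ⟨k, hk, conjAut Q h hhN, mem_autInducedBy.2 ⟨h, hhS, fun x => rfl⟩,
        autInducedBy_le_autGroup F hQS (mem_autInducedBy.2 ⟨h, hhS, fun x => rfl⟩), ?_⟩
      apply MulEquiv.ext
      intro y
      obtain ⟨x, rfl⟩ := e.surjective y
      apply Subtype.ext
      have hx : (g : Ω) * (x : Ω) * (g : Ω)⁻¹ ∈ P :=
        (Subgroup.mem_normalizer_iff.1 (hN g.2) x).1 x.2
      rw [hf g x hx, hh x hx ((Subgroup.mem_normalizer_iff.1 hhN _).1 (e x).2)]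
      rfl)
  -- the modified isomorphism
  let χ' : P →* Ω := Q.subtype.comp ((k : MulAut Q).toMonoidHom.comp e.toMonoidHom)
  have hχ'v : ∀ x : P, χ' x = ((k (e x) : Q) : Ω) := fun x => rfl
  have hkm : Q.subtype.comp k.toMonoidHom ∈ F.Hom Q := (mem_autGroup F hQS).1 (hKA hk)
  have hχ' : χ' ∈ F.Hom P := comp_mem' F hχ hkm (fun x => ⟨(e x).2, rfl⟩)
  have hr' : χ'.range = Q := by
    ext y
    constructor
    · rintro ⟨x, rfl⟩
      exact (k (e x)).2
    · intro hy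
      refine ⟨e.symm (k⁻¹ ⟨y, hy⟩), ?_⟩
      rw [hχ'v, MulEquiv.apply_symm_apply, MulAut.apply_inv_self]
  obtain ⟨ψ, hψ, hψe⟩ := hQr.2 P χ' hχ' hr'
  have hPe : P ≤ extender S P χ' := by
    intro a ha
    rw [mem_extender]
    refine ⟨hPS ha, Subgroup.le_normalizer ha, χ' ⟨a, ha⟩, (F.le_of_mem hχ').2 _, fun x hx => ?_⟩
    have : (⟨a * x * a⁻¹, hx⟩ : P) = ⟨a, ha⟩ * x * ⟨a, ha⟩⁻¹ := Subtype.ext rfl
    rw [this, map_mul, map_mul, map_inv]
  have hNe : N ≤ extender S P χ' := by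
    intro g hg
    rw [mem_extender]
    refine ⟨hNS hg, hN hg, ?_⟩
    obtain ⟨h, hhS, hh⟩ := mem_autInducedBy.1 (hk2 (f ⟨g, hg⟩) ⟨_, rfl⟩)
    refine ⟨h, hhS, fun x hx => ?_⟩
    have h1 := hh (k (e x))
    have h2 : (k * f ⟨g, hg⟩ * k⁻¹) (k (e x)) = k (f ⟨g, hg⟩ (e x)) := by
      rw [MulAut.mul_apply, MulAut.mul_apply, MulAut.inv_apply_self]
    rw [h2] at h1
    have h3 : f ⟨g, hg⟩ (e x) = e ⟨g * x * g⁻¹, hx⟩ := Subtype.ext (hf ⟨g, hg⟩ x hx)
    rw [h3] at h1
    exact h1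
  refine ⟨k, hk, ψ.comp (Subgroup.inclusion (sup_le hPe hNe)), res_mem_comp F hψ _, ?_⟩
  intro x hx hx'
  show ψ ⟨x, _⟩ = _
  rw [hψe x x.2 (hPe x.2)]
  rfl

/-- **Extension to the normalizer**: `Q` fully automized and receptive and `χ : P → Q` an isomorphism of the system;
some map of the system on `N_S(P)` carries `P` onto `Q`. -/
theorem exists_normalizer_hom [Finite S] {p : ℕ} [Fact p.Prime] (hS : IsPGroup p S)
    {Q : Subgroup Ω} (hQa : F.IsFullyAutomized p Q) (hQr : F.IsReceptive Q)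
    {P : Subgroup Ω} {χ : P →* Ω} (hχ : χ ∈ F.Hom P) (hr : χ.range = Q) :
    ∃ k ∈ F.autGroup Q, ∃ ψ ∈ F.Hom (normalizerIn S P),
      ∀ (x : P) (hx : χ x ∈ Q) (hx' : (x : Ω) ∈ normalizerIn S P),
      ψ ⟨x, hx'⟩ = ((k ⟨χ x, hx⟩ : Q) : Ω) := by
  have hQS : Q ≤ S := hQa.1
  have hPS : P ≤ S := (F.le_of_mem hχ).1
  have hinj := F.injective_of_mem hχ
  set e : P ≃* Q := isoOf χ hinj hr with he
  obtain ⟨k, hk, ψ, hψ, h⟩ := exists_extension F hS hQa hQr hχ hr (F.autGroup Q) le_rfl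
    (fun a ha k hk => mul_mem (mul_mem ha hk) (inv_mem ha)) (normalizerIn S P) inf_le_left
    inf_le_right (by
      intro g hg
      have hgn := hg.2
      refine ⟨(MulAut.congr e) (conjAut P g hg.2), ?_, 1, one_mem S, one_mem _, ?_⟩
      · apply autGroup_map
        obtain ⟨χi, hχi, hi⟩ := exists_inv F hχ (R := Q) (by rw [hr])
        have h1 : (conjHom P g).comp e.symm.toMonoidHom ∈ F.Hom Q := by
          refine comp_mem' F hχi (F.conj_mem (P := P) hPS hg.1) (fun y => ?_)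
          obtain ⟨x, rfl⟩ := e.surjective y
          have h2 := hi x (e x).2
          have h3 : χi (e x) = x := h2
          refine ⟨by rw [h3]; exact x.2, ?_⟩
          show conjHom P g (e.symm (e x)) = _
          rw [MulEquiv.symm_apply_apply]
          congr 1
          exact Subtype.ext h3.symm
        refine comp_mem' F h1 hχ (fun y => ⟨?_, rfl⟩)
        exact (Subgroup.mem_normalizer_iff.1 hgn _).1 (e.symm y).2
      · intro x hx hy
        have h2 : (⟨1 * χ x * 1⁻¹, hy⟩ : Q) = e x := Subtype.ext (by simp [he])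
        rw [h2]
        show _ = ((e (conjAut P g hgn (e.symm (e x))) : Q) : Ω)
        rw [MulEquiv.symm_apply_apply]
        rfl)
  have hle : normalizerIn S P ≤ P ⊔ normalizerIn S P := le_sup_right
  exact ⟨k, hk, ψ.comp (Subgroup.inclusion hle), res_mem_comp F hψ _,
    fun x hx hx' => h x hx (hle hx')⟩

end extension

section induction

variable {Ω : Type*} [Group Ω] {S : Subgroup Ω} (F : FusionSystem S)

/-- **Downward induction principle** for the maps of a saturated fusion system: a property of maps that is closed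
under restriction, composition and inverses and that holds for the automorphisms (in the system) of a fully automized
and receptive subgroup `Q` as soon as it holds for all maps with strictly larger source, holds for all maps. -/
theorem saturated_induction [Finite S] {p : ℕ} [Fact p.Prime] (hS : IsPGroup p S)
    (hF : F.IsSaturated p) (M : ∀ P : Subgroup Ω, (P →* Ω) → Prop)
    (h_res : ∀ (P R : Subgroup Ω) (φ : P →* Ω) (χ : R →* Ω), φ ∈ F.Hom P → M P φ → ∀ h : R ≤ P,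
      (∀ x : R, χ x = φ ⟨x, h x.2⟩) → M R χ)
    (h_comp : ∀ (P Q : Subgroup Ω) (φ : P →* Ω) (ψ : Q →* Ω) (χ : P →* Ω), φ ∈ F.Hom P → ψ ∈ F.Hom Q →
      M P φ → M Q ψ → (∀ x : P, ∃ h : φ x ∈ Q, χ x = ψ ⟨φ x, h⟩) → M P χ)
    (h_inv : ∀ (P R : Subgroup Ω) (φ : P →* Ω) (χ : R →* Ω), φ ∈ F.Hom P → M P φ → χ ∈ F.Hom R →
      (∀ y : R, ∃ x : P, φ x = y ∧ χ y = x) → M R χ)
    (h_aut : ∀ Q : Subgroup Ω, F.IsFullyAutomized p Q → F.IsReceptive Q →
      (∀ (R : Subgroup Ω) (φ : R →* Ω), φ ∈ F.Hom R → Nat.card Q < Nat.card R → M R φ) →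
      ∀ α ∈ F.autGroup Q, M Q (Q.subtype.comp α.toMonoidHom)) :
    ∀ (P : Subgroup Ω) (φ : P →* Ω), φ ∈ F.Hom P → M P φ := by
  -- strong downward induction on the order of `P`
  have key : ∀ n : ℕ, ∀ (P : Subgroup Ω) (φ : P →* Ω), φ ∈ F.Hom P →
      Nat.card S - Nat.card P = n → M P φ := by
    intro n
    induction n using Nat.strong_induction_on with
    | _ n ih =>
    intro P φ hφ hn
    have hPS : P ≤ S := (F.le_of_mem hφ).1
    have hfP : Finite P := Finite.of_injective _ (Subgroup.inclusion_injective hPS)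
    have big : ∀ (R : Subgroup Ω) (ψ : R →* Ω), ψ ∈ F.Hom R → Nat.card P < Nat.card R → M R ψ := by
      intro R ψ hψ hlt
      have hRS : R ≤ S := (F.le_of_mem hψ).1
      have h1 : Nat.card R ≤ Nat.card S := Subgroup.card_le_of_le hRS
      exact ih (Nat.card S - Nat.card R) (by omega) R ψ hψ rfl
    obtain ⟨Q, ⟨χ, hχ, hχr⟩, hQa, hQr⟩ := hF P hPS
    have hQS := hQa.1
    have hcard : Nat.card Q = Nat.card P :=
      (Nat.card_congr (isoOf χ (F.injective_of_mem hχ) hχr).toEquiv).symm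
    have haut := h_aut Q hQa hQr (fun R ψ hψ hlt => big R ψ hψ (hcard ▸ hlt))
    by_cases hPeq : P = S
    · -- the case `P = S`
      subst hPeq
      have hQP : Q = P := by
        apply Subgroup.eq_of_le_of_card_ge hQS
        rw [hcard]
      subst hQP
      have hr : φ.range = Q := by
        apply Subgroup.eq_of_le_of_card_ge
        · rintro _ ⟨x, rfl⟩
          exact (F.le_of_mem hφ).2 x
        · rw [← Nat.card_congr (MonoidHom.ofInjective (F.injective_of_mem hφ)).toEquiv]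
      have h1 := haut _ (isoOf_mem_autGroup F hφ hr)
      have h2 : Q.subtype.comp (isoOf φ (F.injective_of_mem hφ) hr).toMonoidHom = φ := by
        ext x; rfl
      rwa [h2] at h1
    · -- the case `P < S`
      -- extension of a map onto `Q` to the normalizer
      have hup : ∀ (P' : Subgroup Ω) (χ' : P' →* Ω), χ' ∈ F.Hom P' → χ'.range = Q →
          Nat.card P' = Nat.card P → ∃ ψ ∈ F.Hom P', ψ.range = Q ∧ M P' ψ := by
        intro P' χ' hχ' hr' hc'
        have hP'S : P' ≤ S := (F.le_of_mem hχ').1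
        have hfP' : Finite P' := Finite.of_injective _ (Subgroup.inclusion_injective hP'S)
        have hlt : P' < S := by
          refine lt_of_le_of_ne hP'S (fun h => hPeq ?_)
          apply Subgroup.eq_of_le_of_card_ge hPS
          rw [← hc', h]
        obtain ⟨g, hgS, hgP, hgn⟩ := exists_mem_normalizer_not_mem hS le_rfl hlt
        have hlt2 : P' < normalizerIn S P' := by
          refine lt_of_le_of_ne (le_normalizerIn hP'S) (fun h => hgP ?_)
          rw [h]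
          exact ⟨hgS, hgn⟩
        have hfN : Finite (normalizerIn S P') :=
          Finite.of_injective _ (Subgroup.inclusion_injective inf_le_left)
        have hclt : Nat.card P' < Nat.card (normalizerIn S P') := by
          refine lt_of_le_of_ne (Subgroup.card_le_of_le hlt2.le) (fun h => ?_)
          exact hlt2.ne (Subgroup.eq_of_le_of_card_ge hlt2.le h.ge)
        obtain ⟨k, hk, ψ, hψ, hψe⟩ := exists_normalizer_hom F hS hQa hQr hχ' hr'
        have hMψ := big _ ψ hψ (hc' ▸ hclt)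
        refine ⟨ψ.comp (Subgroup.inclusion hlt2.le), res_mem_comp F hψ _, ?_,
          h_res _ _ ψ _ hψ hMψ hlt2.le (fun x => rfl)⟩
        ext y
        constructor
        · rintro ⟨x, rfl⟩
          have h1 := hψe x (by rw [← hr']; exact ⟨x, rfl⟩) (hlt2.le x.2)
          show ψ ⟨x, _⟩ ∈ Q
          rw [h1]
          exact (k _).2
        · intro hy
          have h2 : ((k⁻¹ ⟨y, hy⟩ : Q) : Ω) ∈ χ'.range := by rw [hr']; exact (k⁻¹ ⟨y, hy⟩).2
          obtain ⟨x, hx⟩ := h2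
          refine ⟨x, ?_⟩
          have h1 := hψe x (by rw [← hr']; exact ⟨x, rfl⟩) (hlt2.le x.2)
          show ψ ⟨x, _⟩ = y
          rw [h1]
          have h3 : (⟨χ' x, by rw [← hr']; exact ⟨x, rfl⟩⟩ : Q) = k⁻¹ ⟨y, hy⟩ := Subtype.ext hx
          rw [h3, MulAut.apply_inv_self]
      obtain ⟨χ₁, hχ₁, hr₁, hM₁⟩ := hup P χ hχ hχr rfl
      -- the same for the image of `φ`
      have hφi := F.injective_of_mem hφ
      have hcφ : Nat.card φ.range = Nat.card P :=
        (Nat.card_congr (MonoidHom.ofInjective hφi).toEquiv).symm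
      obtain ⟨φi, hφim, hφie⟩ := F.inv_mem hφ
      have hφir : ∀ y : φ.range, φi y ∈ P := by
        rintro ⟨_, x, rfl⟩
        rw [hφie x]; exact x.2
      let χ₂' : φ.range →* Ω := χ₁.comp (φi.codRestrict P hφir)
      have hχ₂' : χ₂' ∈ F.Hom φ.range := F.comp_mem hφim hχ₁ hφir
      have hχ₂'e : ∀ x : P, χ₂' ⟨φ x, ⟨x, rfl⟩⟩ = χ₁ x := by
        intro x
        show χ₁ _ = χ₁ x
        congr 1
        exact Subtype.ext (hφie x)
      have hr₂' : χ₂'.range = Q := by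
        rw [← hr₁]
        ext y
        constructor
        · rintro ⟨⟨_, x, rfl⟩, rfl⟩
          exact ⟨x, (hχ₂'e x).symm⟩
        · rintro ⟨x, rfl⟩
          exact ⟨⟨φ x, ⟨x, rfl⟩⟩, hχ₂'e x⟩
      obtain ⟨χ₂, hχ₂, hr₂, hM₂⟩ := hup φ.range χ₂' hχ₂' hr₂' hcφ
      -- the automorphism `χ₂ φ χ₁⁻¹` of `Q`
      set e₁ : P ≃* Q := isoOf χ₁ (F.injective_of_mem hχ₁) hr₁
      set e₂ : φ.range ≃* Q := isoOf χ₂ (F.injective_of_mem hχ₂) hr₂
      let eφ : P ≃* φ.range := MonoidHom.ofInjective hφi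
      let α : MulAut Q := (e₁.symm.trans eφ).trans e₂
      have hα : α ∈ F.autGroup Q := by
        apply autGroup_map
        have h1 : P.subtype.comp e₁.symm.toMonoidHom ∈ F.Hom Q := by
          refine inv_mem' F hχ₁ (fun y => ⟨e₁.symm y, ?_, rfl⟩)
          exact apply_isoOf_symm _ _ _ _
        have h2 : φ.comp e₁.symm.toMonoidHom ∈ F.Hom Q :=
          comp_mem' F h1 hφ (fun y => ⟨(e₁.symm y).2, rfl⟩)
        exact comp_mem' F h2 hχ₂ (fun y => ⟨⟨e₁.symm y, rfl⟩, rfl⟩)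
      have hMα := haut α hα
      have hαm : Q.subtype.comp α.toMonoidHom ∈ F.Hom Q := (mem_autGroup F hQS).1 hα
      -- `χ₂ φ = α χ₁`
      have hc1 : ∀ x : P, ((α (e₁ x) : Q) : Ω) = χ₂ ⟨φ x, ⟨x, rfl⟩⟩ := by
        intro x
        show ((e₂ (eφ (e₁.symm (e₁ x))) : Q) : Ω) = _
        rw [MulEquiv.symm_apply_apply]
        rfl
      let τ : P →* Ω := χ₂.comp (φ.codRestrict φ.range (fun x => ⟨x, rfl⟩))
      have hτ : τ ∈ F.Hom P := F.comp_mem hφ hχ₂ _
      have hMτ : M P τ := by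
        refine h_comp P Q χ₁ _ τ hχ₁ hαm hM₁ hMα (fun x => ⟨(e₁ x).2, ?_⟩)
        exact (hc1 x).symm
      -- the inverse of `χ₂`
      let ρ : Q →* Ω := φ.range.subtype.comp e₂.symm.toMonoidHom
      have hρ : ρ ∈ F.Hom Q := by
        refine inv_mem' F hχ₂ (fun y => ⟨e₂.symm y, ?_, rfl⟩)
        exact apply_isoOf_symm _ _ _ _
      have hMρ : M Q ρ := by
        refine h_inv _ _ χ₂ ρ hχ₂ hM₂ hρ (fun y => ⟨e₂.symm y, ?_, rfl⟩)
        exact apply_isoOf_symm _ _ _ _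
      refine h_comp P Q τ ρ φ hτ hρ hMτ hMρ (fun x => ⟨?_, ?_⟩)
      · rw [← hr₂]
        exact ⟨_, rfl⟩
      · have h1 := isoOf_symm_apply χ₂ (F.injective_of_mem hχ₂) hr₂ ⟨φ x, ⟨x, rfl⟩⟩
          (by rw [← hr₂]; exact ⟨_, rfl⟩)
        exact congrArg Subtype.val h1.symm
  intro P φ hφ
  exact key _ P φ hφ rfl

end induction

end Cfsg.Agent.H759
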