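import Cfsg.Agent.H759.ResChain
import Cfsg.Agent.H752.Ext

/-!
# Normality of `p`-power index subsystems of `C_F(T)` (helper759)

`T` and `Y ≤ C_S(T)` strongly closed in the saturated system `F`, `C = C_F(T)` saturated, `hyp(C) ≤ Y`, `D` the saturated
subsystem of `C` over `Y` of `p`-power index. Then `D` is normal in `F`.
-/

set_option autoImplicit false

namespace Cfsg.Agent.H759

open Cfsg Cfsg.FusionSystem

variable {Ω : Type*} [Group Ω] {S T Y : Subgroup Ω} {F : FusionSystem S} {p : ℕ}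

/-- Extension of a map onto a receptive subgroup to the centralizer. -/
theorem exists_ext_centralizer [Finite S] {P R : Subgroup Ω} (hR : F.IsReceptive R)
    {f : Ω → Ω} (hf : H752.Mp F P f) (hfR : ∀ x ∈ P, f x ∈ R) (hsurj : ∀ y ∈ R, ∃ x ∈ P, f x = y) :
    ∃ g, H752.Mp F (P ⊔ centralizerIn S P) g ∧ ∀ x ∈ P, g x = f x := by
  obtain ⟨φ, hφ, hφf⟩ := hf
  have hPS : P ≤ S := (F.le_of_mem hφ).1
  have hr : φ.range = R := by
    ext y
    constructor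
    · rintro ⟨x, rfl⟩
      rw [hφf x x.2]
      exact hfR x x.2
    · intro hy
      obtain ⟨x, hx, rfl⟩ := hsurj y hy
      exact ⟨⟨x, hx⟩, hφf x hx⟩
  obtain ⟨ψ, hψ, hψe⟩ := hR.2 P φ hφ hr
  have h1 : P ≤ extender S P φ := H802.le_extender hPS (H802.hom_apply_mem hφ)
  have h2 : centralizerIn S P ≤ extender S P φ := H802.centralizerIn_le_extender S P _
  refine ⟨H752.ex ψ, (H752.mp_ex hψ).res (sup_le h1 h2), fun x hx => ?_⟩
  rw [H752.ex_apply _ (h1 hx), hψe x hx (h1 hx), hφf x hx]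

/-- A map between subgroups of `Y` extends to `P T`. -/
theorem exists_ext_sup [Finite S] (hF : F.IsSaturated p) (hT : F.StronglyClosed T)
    (hYT : Y ≤ centralizerIn S T) (hY : F.StronglyClosed Y) {P : Subgroup Ω} (hP : P ≤ Y) {f : Ω → Ω}
    (hf : H752.Mp F P f) : ∃ g, H752.Mp F (P ⊔ T) g ∧ (∀ x ∈ P, g x = f x) ∧ ∀ t ∈ T, g t ∈ T := by
  have hPS : P ≤ S := hf.le
  have hfT : Finite T := H802.finite_of_le hT.1
  have hTcent : ∀ {Q : Subgroup Ω}, Q ≤ Y → T ≤ centralizerIn S Q := fun {Q} hQ t ht =>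
    ⟨hT.1 ht, Subgroup.mem_centralizer_iff.2 fun q hq =>
      (Subgroup.mem_centralizer_iff.1 (hYT (hQ hq)).2 t ht).symm⟩
  obtain ⟨R, ⟨μ, hμ, hμr⟩, -, hR⟩ := hF P hPS
  have hμR : ∀ x ∈ P, H752.ex μ x ∈ R := fun x hx => by
    rw [H752.ex_apply _ hx, ← hμr]
    exact ⟨_, rfl⟩
  have hμs : ∀ y ∈ R, ∃ x ∈ P, H752.ex μ x = y := fun y hy => by
    rw [← hμr] at hy
    obtain ⟨x, rfl⟩ := hy
    exact ⟨x, x.2, H752.ex_coe _ x⟩
  obtain ⟨m, hm, hme⟩ := exists_ext_centralizer hR (H752.mp_ex hμ) hμR hμs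
  have hm' : H752.Mp F (P ⊔ T) m := hm.res (sup_le_sup_left (hTcent hP) P)
  -- the image of `f`
  obtain ⟨P₂, hP₂, hP₂S, -⟩ := hf.exists_image le_rfl
  obtain ⟨f', hf', h1, h2⟩ := hf.exists_symm le_rfl hP₂
  have hP₂Y : P₂ ≤ Y := by
    intro y hy
    obtain ⟨x, hx, rfl⟩ := (hP₂ y).1 hy
    exact H752.mp_mem_of_stronglyClosed hY hf hx (hP hx)
  have hμ₂ : H752.Mp F P₂ (fun y => H752.ex μ (f' y)) :=
    hf'.comp (H752.mp_ex hμ) fun y hy => (h2 y hy).1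
  obtain ⟨n, hn, hne⟩ := exists_ext_centralizer hR hμ₂ (fun y hy => hμR _ (h2 y hy).1) (fun y hy => by
    obtain ⟨x, hx, rfl⟩ := hμs y hy
    exact ⟨f x, (hP₂ _).2 ⟨x, hx, rfl⟩, by rw [h1 x hx]⟩)
  have hn' : H752.Mp F (P₂ ⊔ T) n := hn.res (sup_le_sup_left (hTcent hP₂Y) P₂)
  obtain ⟨R₂, hR₂, hR₂S, -⟩ := hn'.exists_image le_rfl
  obtain ⟨n', hn'', h3, h4⟩ := hn'.exists_symm le_rfl hR₂
  have hnT : ∀ t ∈ T, n t ∈ T := fun t ht =>
    H752.mp_mem_of_stronglyClosed hT hn' ((le_sup_right : T ≤ P₂ ⊔ T) ht) ht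
  have hmT : ∀ t ∈ T, m t ∈ T := fun t ht =>
    H752.mp_mem_of_stronglyClosed hT hm' ((le_sup_right : T ≤ P ⊔ T) ht) ht
  have hTR₂ : T ≤ R₂ := by
    intro t ht
    obtain ⟨s, hs, rfl⟩ := (hn'.res (le_sup_right : T ≤ P₂ ⊔ T)).surj hnT ht
    exact (hR₂ _).2 ⟨s, (le_sup_right : T ≤ P₂ ⊔ T) hs, rfl⟩
  have hmm : ∀ x ∈ P ⊔ T, m x ∈ R₂ := by
    refine hm'.mem_sup (fun x hx => ?_) (fun t ht => hTR₂ (hmT t ht))
    rw [hme x hx]
    refine (hR₂ _).2 ⟨f x, (le_sup_left : P₂ ≤ P₂ ⊔ T) ((hP₂ _).2 ⟨x, hx, rfl⟩), ?_⟩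
    rw [hne _ ((hP₂ _).2 ⟨x, hx, rfl⟩)]
    rw [h1 x hx]
  have hg : H752.Mp F (P ⊔ T) (fun x => n' (m x)) := hm'.comp hn'' hmm
  refine ⟨_, hg, fun x hx => ?_, fun t ht =>
    H752.mp_mem_of_stronglyClosed hT hg ((le_sup_right : T ≤ P ⊔ T) ht) ht⟩
  have h5 : f x ∈ P₂ := (hP₂ _).2 ⟨x, hx, rfl⟩
  have h6 : m x = n (f x) := by
    rw [hme x hx, hne _ h5]
    rw [h1 x hx]
  show n' (m x) = f x
  rw [h6, h3 _ ((le_sup_left : P₂ ≤ P₂ ⊔ T) h5)]

variable {C : FusionSystem (centralizerIn S T)}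

/-- The maps of the centralizer system as functions. -/
theorem mp_centralizer_iff (hC : F.IsCentralizerSystem T C) {P : Subgroup Ω} {f : Ω → Ω} :
    H752.Mp C P f ↔ P ≤ centralizerIn S T ∧ (∀ x ∈ P, f x ∈ centralizerIn S T) ∧
      ∃ g, H752.Mp F (P ⊔ T) g ∧ (∀ x ∈ P, g x = f x) ∧ ∀ t ∈ T, g t = t := by
  constructor
  · intro h
    obtain ⟨φ, hφ, hφf⟩ := h
    rw [hC P] at hφ
    obtain ⟨h1, h2, h3, ψ, hψ, h4, h5⟩ := hφ
    refine ⟨h2, fun x hx => hφf x hx ▸ h3 _, H752.ex ψ, H752.mp_ex hψ, fun x hx => ?_, fun t ht => ?_⟩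
    · rw [H752.ex_apply _ ((le_sup_left : P ≤ P ⊔ T) hx), ← hφf x hx]
      exact h4 ⟨x, hx⟩
    · rw [H752.ex_apply _ ((le_sup_right : T ≤ P ⊔ T) ht)]
      exact h5 ⟨t, ht⟩
  · rintro ⟨h1, h2, g, ⟨ψ, hψ, hψg⟩, h3, h4⟩
    have h5 : H752.Mp F P f := by
      refine H752.Mp.congr (H752.Mp.res ⟨ψ, hψ, hψg⟩ (le_sup_left : P ≤ P ⊔ T)) fun x hx => ?_
      exact (h3 x hx).symm
    obtain ⟨φ, hφ, hφf⟩ := h5
    refine ⟨φ, ?_, hφf⟩
    rw [hC P]
    refine ⟨hφ, h1, fun x => ?_, ψ, hψ, fun x => ?_, fun t => ?_⟩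
    · rw [hφf x x.2]; exact h2 x x.2
    · rw [hφf x x.2, ← h3 x x.2]; exact hψg x ((le_sup_left : P ≤ P ⊔ T) x.2)
    · exact (hψg t ((le_sup_right : T ≤ P ⊔ T) t.2)).trans (h4 t t.2)

/-- Every map of `F` from a subgroup of `Y` is an automorphism of `C_S(T)` after a map of `C_F(T)`. -/
theorem exists_factor_centralizer [Finite S] (hF : F.IsSaturated p) (hT : F.StronglyClosed T)
    (hC : F.IsCentralizerSystem T C) (hYT : Y ≤ centralizerIn S T) (hY : F.StronglyClosed Y)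
    {P : Subgroup Ω} (hP : P ≤ Y) {f : Ω → Ω} (hf : H752.Mp F P f) :
    ∃ a, H752.Mp F (T ⊔ centralizerIn S T) a ∧ (∀ c ∈ centralizerIn S T, a c ∈ centralizerIn S T) ∧
      ∃ f₁, H752.Mp C P f₁ ∧ ∀ x ∈ P, f x = a (f₁ x) := by
  have hfT : Finite T := H802.finite_of_le hT.1
  obtain ⟨g, hg, hgf, hgT⟩ := exists_ext_sup hF hT hYT hY hP hf
  obtain ⟨α, hα, hαg⟩ := (hg.res (le_sup_right : T ≤ P ⊔ T)).exists_aut hgT
  obtain ⟨β, hβ, hβr, hβC⟩ := H752.exists_extension_centralizer hF hT hα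
  have hsup : T ⊔ centralizerIn S T ≤ S := sup_le hT.1 inf_le_left
  have hfsup : Finite (T ⊔ centralizerIn S T : Subgroup Ω) := H802.finite_of_le hsup
  have ha : H752.Mp F (T ⊔ centralizerIn S T) (H752.ex fun x => ((β x : ↥(T ⊔ centralizerIn S T)) : Ω)) :=
    (H752.mp_iff_autGroup hsup β).1 hβ
  obtain ⟨a, haeq⟩ : ∃ a : Ω → Ω, a = H752.ex fun x => ((β x : ↥(T ⊔ centralizerIn S T)) : Ω) := ⟨_, rfl⟩
  rw [← haeq] at ha
  have haC : ∀ c ∈ centralizerIn S T, a c ∈ centralizerIn S T := fun c hc => by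
    rw [haeq, H752.ex_apply _ ((le_sup_right : centralizerIn S T ≤ _) hc)]
    exact hβC c hc
  have haT : ∀ t ∈ T, a t = g t := fun t ht => by
    rw [haeq, H752.ex_apply _ ((le_sup_left : T ≤ _) ht), hαg t ht]
    exact hβr t ht
  have ham : ∀ x ∈ T ⊔ centralizerIn S T, a x ∈ T ⊔ centralizerIn S T :=
    ha.mem_sup (fun t ht => (le_sup_left : T ≤ T ⊔ centralizerIn S T) (by rw [haT t ht]; exact hgT t ht))
      (fun c hc => (le_sup_right : centralizerIn S T ≤ T ⊔ centralizerIn S T) (haC c hc))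
  obtain ⟨b, hb, hba, hab⟩ := ha.exists_symm le_rfl (T := T ⊔ centralizerIn S T) fun y =>
    ⟨fun hy => ha.surj ham hy, fun ⟨x, hx, h⟩ => h ▸ ham x hx⟩
  have hPsup : ∀ x ∈ P ⊔ T, g x ∈ T ⊔ centralizerIn S T := by
    refine hg.mem_sup (fun x hx => ?_) (fun t ht => (le_sup_left : T ≤ _) (hgT t ht))
    rw [hgf x hx]
    exact (le_sup_right : centralizerIn S T ≤ _) (hYT (H752.mp_mem_of_stronglyClosed hY hf hx (hP hx)))
  have hg₁ : H752.Mp F (P ⊔ T) (fun x => b (g x)) := hg.comp hb hPsup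
  have hfC : ∀ x ∈ P, f x ∈ centralizerIn S T := fun x hx =>
    hYT (H752.mp_mem_of_stronglyClosed hY hf hx (hP hx))
  -- `b` maps `C_S(T)` into itself
  have hfinC : Finite (centralizerIn S T) := H802.finite_of_le inf_le_left
  have hbC : ∀ c ∈ centralizerIn S T, b c ∈ centralizerIn S T := by
    intro c hc
    obtain ⟨c', hc', rfl⟩ := (ha.res (le_sup_right : centralizerIn S T ≤ _)).surj haC hc
    rw [hba c' ((le_sup_right : centralizerIn S T ≤ _) hc')]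
    exact hc'
  refine ⟨a, ha, haC, fun x => b (f x), (mp_centralizer_iff hC).2 ⟨hP.trans hYT, fun x hx => hbC _ (hfC x hx),
    fun x => b (g x), hg₁, fun x hx => ?_, fun t ht => ?_⟩, fun x hx => ?_⟩
  · show b (g x) = b (f x)
    rw [hgf x hx]
  · show b (g t) = t
    rw [← haT t ht, hba t ((le_sup_left : T ≤ _) ht)]
  · exact (hab _ ((le_sup_right : centralizerIn S T ≤ _) (hfC x hx))).2.symm

/-- Invariance under `Aut_F(Y)`, from the automorphisms of order prime to `p`. -/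
theorem invC_of_gen [Finite Y] [Fact p.Prime] (hYp : IsPGroup p Y) {D : FusionSystem Y} (hD : D.IsSaturated p)
    (hY : F.StronglyClosed Y)
    (hprime : ∀ (Q : Subgroup Ω), Q ≤ Y → ∀ α ∈ D.autGroup Q, Nat.Coprime (orderOf α) p →
      ∀ (a : Ω → Ω), H752.Mp F Y a → ∀ (Q' : Subgroup Ω) (e : Q ≃* Q'), (∀ x : Q, ((e x : Q') : Ω) = a x) →
        MulAut.congr e α ∈ D.autGroup Q') : H752.InvC D F := by
  have key : ∀ (P : Subgroup Ω) (f : Ω → Ω), H752.Mp D P f → ∀ (R : Subgroup Ω) (a h : Ω → Ω),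
      H752.Mp F Y a → (∀ y ∈ R, ∃ x ∈ P, a x = y ∧ h y = a (f x)) → H752.Mp D R h := by
    have hm : ∀ a : Ω → Ω, H752.Mp F Y a → ∀ x ∈ Y, a x ∈ Y := fun a ha x hx =>
      H752.mp_mem_of_stronglyClosed hY ha hx hx
    refine H752.mp_generation D hYp hD (fun P f => ∀ (R : Subgroup Ω) (a h : Ω → Ω),
      H752.Mp F Y a → (∀ y ∈ R, ∃ x ∈ P, a x = y ∧ h y = a (f x)) → H752.Mp D R h) ?_ ?_ ?_ ?_ ?_ ?_
    · intro P f g _ hM he R a h ha hR
      refine hM R a h ha fun y hy => ?_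
      obtain ⟨x, hx, h1, h2⟩ := hR y hy
      exact ⟨x, hx, h1, by rw [h2, he x hx]⟩
    · intro P R' f _ hM hR' R a h ha hR
      refine hM R a h ha fun y hy => ?_
      obtain ⟨x, hx, h1, h2⟩ := hR y hy
      exact ⟨x, hR' hx, h1, h2⟩
    · intro P Q f g hf hg hMf hMg hPQ R a h ha hR
      obtain ⟨a', ha', h3, h4⟩ := H752.exists_aut_inv hY ha
      have h1 : H752.Mp D R (fun y => a (f (a' y))) := by
        refine hMf R a _ ha fun y hy => ?_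
        obtain ⟨x, hx, hxy, -⟩ := hR y hy
        refine ⟨x, hx, hxy, ?_⟩
        rw [← hxy, h3 x (hf.le hx)]
      obtain ⟨R₁, hR₁, hR₁T, -⟩ := h1.exists_image le_rfl
      have h2 : H752.Mp D R₁ (fun y => a (g (a' y))) := by
        refine hMg R₁ a _ ha fun y hy => ?_
        obtain ⟨z, hz, rfl⟩ := (hR₁ y).1 hy
        obtain ⟨x, hx, hxz, -⟩ := hR z hz
        refine ⟨f x, hPQ x hx, ?_, ?_⟩
        · rw [← hxz, h3 x (hf.le hx)]
        · show a (g (a' (a (f (a' z))))) = a (g (f x))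
          rw [← hxz, h3 x (hf.le hx), h3 _ (hf.mem hx)]
      refine (h1.comp h2 fun y hy => (hR₁ _).2 ⟨y, hy, rfl⟩).congr fun y hy => ?_
      obtain ⟨x, hx, hxy, hhy⟩ := hR y hy
      show h y = a (g (a' (a (f (a' y)))))
      rw [hhy, ← hxy, h3 x (hf.le hx), h3 _ (hf.mem hx)]
    · intro P R' f g hf hMf _ hinv R a h ha hR
      obtain ⟨a', ha', h3, h4⟩ := H752.exists_aut_inv hY ha
      obtain ⟨R₁, hR₁, hR₁T, -⟩ := (ha.res hf.le).exists_image le_rfl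
      have h1 : H752.Mp D R₁ (fun y => a (f (a' y))) := by
        refine hMf R₁ a _ ha fun y hy => ?_
        obtain ⟨x, hx, hxy⟩ := (hR₁ y).1 hy
        refine ⟨x, hx, hxy, ?_⟩
        rw [← hxy, h3 x (hf.le hx)]
      refine h1.symm fun y hy => ?_
      obtain ⟨z, hz, hzy, hhy⟩ := hR y hy
      obtain ⟨x, hx, hxz, hgz⟩ := hinv z hz
      refine ⟨a x, (hR₁ _).2 ⟨x, hx, rfl⟩, ?_, ?_⟩
      · show a (f (a' (a x))) = y
        rw [h3 x (hf.le hx), hxz, hzy]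
      · rw [hhy, hgz]
    · intro P hP t ht R a h ha hR
      have hRT : R ≤ Y := by
        intro y hy
        obtain ⟨x, hx, hxy, -⟩ := hR y hy
        rw [← hxy]
        exact hm a ha x (hP hx)
      refine (H752.mp_conj D hRT (hm a ha t ht)).congr fun y hy => ?_
      obtain ⟨x, hx, hxy, hhy⟩ := hR y hy
      have hxT : x ∈ Y := hP hx
      rw [hhy, ← hxy, ha.mul (mul_mem ht hxT) (inv_mem ht), ha.mul ht hxT, ha.inv ht]
    · intro Q hQa hQr α hα hc f hf R a h ha hR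
      have hQT : Q ≤ Y := hQa.1
      obtain ⟨φ, hφ, hφa⟩ := ha.res hQT
      have hi := F.injective_of_mem hφ
      have hQ'T : φ.range ≤ Y := by
        rintro _ ⟨x, rfl⟩
        rw [hφa x x.2]
        exact hm a ha x (hQT x.2)
      have h1 : MulAut.congr (H802.isoOf φ hi rfl) α ∈ D.autGroup φ.range :=
        hprime Q hQT α hα hc a ha _ _ fun x => hφa x x.2
      have h3 := (H752.mp_iff_autGroup hQ'T _).1 h1
      have hRle : R ≤ φ.range := by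
        intro y hy
        obtain ⟨x, hx, hxy, -⟩ := hR y hy
        exact ⟨⟨x, hx⟩, by rw [hφa, hxy]⟩
      refine (h3.res hRle).congr fun y hy => ?_
      obtain ⟨x, hx, hxy, hhy⟩ := hR y hy
      rw [hhy, H752.ex_apply _ (hRle hy), hf x hx]
      have h4 : (⟨y, hRle hy⟩ : φ.range) = H802.isoOf φ hi rfl ⟨x, hx⟩ := Subtype.ext
        (hxy.symm.trans (hφa x hx).symm)
      rw [h4]
      show a ((α ⟨x, hx⟩ : Q) : Ω) = ((H802.isoOf φ hi rfl (α ((H802.isoOf φ hi rfl).symm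
        (H802.isoOf φ hi rfl ⟨x, hx⟩))) : φ.range) : Ω)
      rw [MulEquiv.symm_apply_apply]
      exact (hφa _ (α ⟨x, hx⟩).2).symm
  intro P R f a h hf ha hR
  exact key P f hf R a h ha hR

theorem isSubsystemOf_centralizer (hC : F.IsCentralizerSystem T C) : C.IsSubsystemOf F := by
  intro P φ hφ
  rw [hC P] at hφ
  exact hφ.1

theorem mp_of_exists {A : Subgroup Ω} (hA : A ≤ S) {β : MulAut A} (hβ : β ∈ F.autGroup A) :
    ∃ b : Ω → Ω, H752.Mp F A b ∧ ∀ (x : Ω) (hx : x ∈ A), b x = (β ⟨x, hx⟩ : A) :=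
  ⟨_, (H752.mp_iff_autGroup hA β).1 hβ, fun _ hx => H752.ex_apply _ hx⟩

/-- The subsystem of `p`-power index of `C_F(T)` over `Y` is invariant under `Aut_F(Y)`. -/
theorem invC_centralizer [Finite S] [Fact p.Prime] (hS : IsPGroup p S) (hF : F.IsSaturated p)
    (hT : F.StronglyClosed T) (hC : F.IsCentralizerSystem T C) (hYT : Y ≤ centralizerIn S T)
    (hY : F.StronglyClosed Y) {D : FusionSystem Y} (hDs : D.IsSaturated p) (hD : D.HasPPowerIndexIn C p) :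
    H752.InvC D F := by
  have hYS : Y ≤ S := hY.1
  have hfY : Finite Y := H802.finite_of_le hYS
  have hfT : Finite T := H802.finite_of_le hT.1
  have hWS : Y ⊔ T ≤ S := sup_le hYS hT.1
  have hfW : Finite (Y ⊔ T : Subgroup Ω) := H802.finite_of_le hWS
  refine invC_of_gen (hS.to_le hYS) hDs hY ?_
  intro Q hQ α hα hc a ha Q' e he
  have haY : ∀ x ∈ Y, a x ∈ Y := fun x hx => H752.mp_mem_of_stronglyClosed hY ha hx hx
  have hQ'Y : Q' ≤ Y := by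
    intro y hy
    have h1 := he (e.symm ⟨y, hy⟩)
    rw [MulEquiv.apply_symm_apply] at h1
    have h2 : y = a (e.symm ⟨y, hy⟩) := h1
    rw [h2]
    exact haY _ (hQ (e.symm ⟨y, hy⟩).2)
  have hαC : α ∈ C.autGroup Q := by
    rw [H752.mp_iff_autGroup (hQ.trans hYT)]
    exact H752.mp_mono hD.1 ((H752.mp_iff_autGroup hQ α).1 hα)
  suffices hβ : MulAut.congr e α ∈ C.autGroup Q' by
    refine hD.2.2 Q' hQ'Y ⟨⟨_, hβ⟩, H752.mem_residual hβ ?_, rfl⟩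
    have h5 : orderOf (MulAut.congr e α) = orderOf α :=
      orderOf_injective (MulAut.congr e).toMonoidHom (MulAut.congr e).injective α
    rw [h5]
    exact hc
  obtain ⟨-, -, g, hg, hg1, hg2⟩ := (mp_centralizer_iff hC).1 ((H752.mp_iff_autGroup (hQ.trans hYT) α).1 hαC)
  have hgα : ∀ (x : Ω) (hx : x ∈ Q), g x = (α ⟨x, hx⟩ : Q) := fun x hx => by
    rw [hg1 x hx, H752.ex_apply _ hx]
  obtain ⟨a', ha', ha1, ha2⟩ := exists_ext_sup hF hT hYT hY le_rfl ha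
  have ham : ∀ x ∈ Y ⊔ T, a' x ∈ Y ⊔ T :=
    ha'.mem_sup (fun x hx => (le_sup_left : Y ≤ Y ⊔ T) (by rw [ha1 x hx]; exact haY x hx))
      (fun t ht => (le_sup_right : T ≤ Y ⊔ T) (ha2 t ht))
  obtain ⟨b, hb, hba, hab⟩ := ha'.exists_symm le_rfl (T := Y ⊔ T) fun y =>
    ⟨fun hy => ha'.surj ham hy, fun ⟨x, hx, h⟩ => h ▸ ham x hx⟩
  have hbT : ∀ t ∈ T, b t ∈ T := fun t ht =>
    H752.mp_mem_of_stronglyClosed hT hb ((le_sup_right : T ≤ Y ⊔ T) ht) ht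
  have hbQ : ∀ (x : Q), b (e x : Q') = x := fun x => by
    rw [he x, ← ha1 x (hQ x.2)]
    exact hba x ((le_sup_left : Y ≤ Y ⊔ T) (hQ x.2))
  have hbsup : ∀ y ∈ Q' ⊔ T, b y ∈ Q ⊔ T := by
    refine (hb.res (sup_le_sup_right hQ'Y T)).mem_sup (fun y hy => ?_) (fun t ht =>
      (le_sup_right : T ≤ Q ⊔ T) (hbT t ht))
    have h1 := hbQ (e.symm ⟨y, hy⟩)
    rw [MulEquiv.apply_symm_apply] at h1
    rw [show b y = (e.symm ⟨y, hy⟩ : Q) from h1]
    exact (le_sup_left : Q ≤ Q ⊔ T) (e.symm ⟨y, hy⟩).2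
  have hgsup : ∀ x ∈ Q ⊔ T, g x ∈ Y ⊔ T := by
    refine hg.mem_sup (fun x hx => ?_) (fun t ht => ?_)
    · rw [hgα x hx]
      exact (le_sup_left : Y ≤ Y ⊔ T) (hQ (α ⟨x, hx⟩).2)
    · rw [hg2 t ht]
      exact (le_sup_right : T ≤ Y ⊔ T) ht
  have hcomp : H752.Mp F (Q' ⊔ T) (fun y => a' (g (b y))) :=
    ((hb.res (sup_le_sup_right hQ'Y T)).comp hg hbsup).comp ha' fun y hy => hgsup _ (hbsup y hy)
  rw [H752.mp_iff_autGroup (hQ'Y.trans hYT), mp_centralizer_iff hC]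
  refine ⟨hQ'Y.trans hYT, fun y hy => ?_, _, hcomp, fun y hy => ?_, fun t ht => ?_⟩
  · rw [H752.ex_apply _ hy]
    exact hYT (hQ'Y (MulAut.congr e α ⟨y, hy⟩).2)
  · rw [H752.ex_apply _ hy]
    obtain ⟨x, hx⟩ := e.surjective ⟨y, hy⟩
    have hy' : y = (e x : Q') := by rw [hx]
    have h1 : MulAut.congr e α ⟨y, hy⟩ = e (α x) := by
      rw [← hx]
      show e (α (e.symm (e x))) = e (α x)
      rw [MulEquiv.symm_apply_apply]
    rw [h1, hy', hbQ x, hgα x x.2, ha1 _ (hQ (α x).2)]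
    exact (he (α x)).symm
  · show a' (g (b t)) = t
    rw [hg2 _ (hbT t ht)]
    exact (hab t ((le_sup_right : T ≤ Y ⊔ T) ht)).2

/-- The Frattini condition for the subsystem of `p`-power index of `C_F(T)` over `Y`. -/
theorem fratC_centralizer [Finite S] [Fact p.Prime] (hF : F.IsSaturated p)
    (hT : F.StronglyClosed T) (hC : F.IsCentralizerSystem T C) (hYT : Y ≤ centralizerIn S T)
    (hY : F.StronglyClosed Y) {D : FusionSystem Y} (hD : D.IsInvariantIn C) {P : Subgroup Ω} (hP : P ≤ Y)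
    {f : Ω → Ω} (hf : H752.Mp F P f) : H752.FratC D F P f := by
  have hfY : Finite Y := H802.finite_of_le hY.1
  obtain ⟨a, ha, haC, f₁, hf₁, hff⟩ := exists_factor_centralizer hF hT hC hYT hY hP hf
  obtain ⟨δ, hδ, f₀, hf₀, hf1⟩ := (H752.isInvariantIn_iff.1 hD).2.2.2 P f₁ hP hf₁
  have hδm : ∀ x ∈ Y, δ x ∈ T ⊔ centralizerIn S T := fun x hx =>
    (le_sup_right : centralizerIn S T ≤ _) (hδ.mem hx)
  refine ⟨fun x => a (δ x), (H752.mp_mono (isSubsystemOf_centralizer hC) hδ).comp ha hδm, f₀, hf₀, ?_⟩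
  intro x hx
  rw [hff x hx, hf1 x hx]

theorem hom_ext_sup {Ω' : Type*} [Group Ω'] {A B : Subgroup Ω} {φ ψ : (A ⊔ B : Subgroup Ω) →* Ω'}
    (hA : ∀ (x : Ω) (hx : x ∈ A), φ ⟨x, (le_sup_left : A ≤ A ⊔ B) hx⟩ = ψ ⟨x, (le_sup_left : A ≤ A ⊔ B) hx⟩)
    (hB : ∀ (x : Ω) (hx : x ∈ B), φ ⟨x, (le_sup_right : B ≤ A ⊔ B) hx⟩ = ψ ⟨x, (le_sup_right : B ≤ A ⊔ B) hx⟩) :
    φ = ψ := by
  have h1 : A ⊔ B ≤ (φ.eqLocus ψ).map (A ⊔ B).subtype := by
    apply sup_le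
    · intro x hx
      exact ⟨⟨x, (le_sup_left : A ≤ A ⊔ B) hx⟩, hA x hx, rfl⟩
    · intro x hx
      exact ⟨⟨x, (le_sup_right : B ≤ A ⊔ B) hx⟩, hB x hx, rfl⟩
  ext x
  obtain ⟨y, hy, hyx⟩ := h1 x.2
  have : y = x := Subtype.ext hyx
  rw [← this]
  exact hy

/-- The extension condition for the automorphisms of order prime to `p`. -/
theorem extC_centralizer [Finite S] [Fact p.Prime] (hS : IsPGroup p S) (hF : F.IsSaturated p)
    (hT : F.StronglyClosed T) (hC : F.IsCentralizerSystem T C) (hYT : Y ≤ centralizerIn S T)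
    (hY : F.StronglyClosed Y) (hhyp : C.hyperfocalSubgroup p ≤ Y) {α : MulAut Y} (hα : α ∈ C.autGroup Y)
    (hc : Nat.Coprime (orderOf α) p) : H752.ExtC F Y (H752.ex fun x => ((α x : Y) : Ω)) := by
  have hYS : Y ≤ S := hY.1
  have hTS : T ≤ S := hT.1
  have hfY : Finite Y := H802.finite_of_le hYS
  have hfT : Finite T := H802.finite_of_le hTS
  have hWS : Y ⊔ T ≤ S := sup_le hYS hTS
  have hfW : Finite (Y ⊔ T : Subgroup Ω) := H802.finite_of_le hWS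
  have hYW : Y ≤ Y ⊔ T := le_sup_left
  have hTW : T ≤ Y ⊔ T := le_sup_right
  have hTC : T ≤ centralizerIn S Y := fun t ht => ⟨hTS ht, Subgroup.mem_centralizer_iff.2 fun q hq =>
      (Subgroup.mem_centralizer_iff.1 (hYT hq).2 t ht).symm⟩
  have hWC : Y ⊔ T ≤ Y ⊔ centralizerIn S Y := sup_le_sup_left hTC Y
  have hYCS : Y ⊔ centralizerIn S Y ≤ S := sup_le hYS inf_le_left
  have hYC : Y ≤ Y ⊔ centralizerIn S Y := le_sup_left
  have hCC : centralizerIn S Y ≤ Y ⊔ centralizerIn S Y := le_sup_right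
  have hfYC : Finite (Y ⊔ centralizerIn S Y : Subgroup Ω) := H802.finite_of_le hYCS
  obtain ⟨-, -, g, hg, hg1, hg2⟩ := (mp_centralizer_iff hC).1 ((H752.mp_iff_autGroup hYT α).1 hα)
  have hgα : ∀ (x : Ω) (hx : x ∈ Y), g x = (α ⟨x, hx⟩ : Y) := fun x hx => by
    rw [hg1 x hx, H752.ex_apply _ hx]
  have hgm : ∀ x ∈ Y ⊔ T, g x ∈ Y ⊔ T := by
    refine hg.mem_sup (fun x hx => ?_) (fun t ht => ?_)
    · rw [hgα x hx]; exact hYW (α ⟨x, hx⟩).2
    · rw [hg2 t ht]; exact hTW ht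
  obtain ⟨γ, hγ, hγg⟩ := hg.exists_aut hgm
  have hγY : ∀ (x : Ω) (hx : x ∈ Y), ((γ ⟨x, hYW hx⟩ : ↥(Y ⊔ T)) : Ω) = (α ⟨x, hx⟩ : Y) := fun x hx => by
    rw [← hγg x (hYW hx), hgα x hx]
  have hγT : ∀ (t : Ω) (ht : t ∈ T), ((γ ⟨t, hTW ht⟩ : ↥(Y ⊔ T)) : Ω) = t := fun t ht => by
    rw [← hγg t (hTW ht), hg2 t ht]
  -- the order of `γ` is prime to `p`
  have hRγ : H752.Restr hYW α γ := fun x hx => hγY x hx
  have hγc : Nat.Coprime (orderOf γ) p := by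
    refine Nat.Coprime.coprime_dvd_left (orderOf_dvd_of_pow_eq_one (n := orderOf α) ?_) hc
    have h1 := hRγ.pow (orderOf α)
    rw [pow_orderOf_eq_one] at h1
    have h2 : ∀ (n : ℕ) (t : Ω) (ht : t ∈ T), (((γ ^ n) ⟨t, hTW ht⟩ : ↥(Y ⊔ T)) : Ω) = t := by
      intro n
      induction n with
      | zero => intro t ht; rfl
      | succ n ih =>
        intro t ht
        rw [pow_succ']
        show ((γ ((γ ^ n) ⟨t, hTW ht⟩) : ↥(Y ⊔ T)) : Ω) = t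
        have h3 : (γ ^ n) ⟨t, hTW ht⟩ = ⟨t, hTW ht⟩ := Subtype.ext (ih t ht)
        rw [h3]
        exact hγT t ht
    have h3 : (γ ^ orderOf α).toMonoidHom = MonoidHom.id _ := by
      refine hom_ext_sup (fun x hx => ?_) (fun t ht => ?_)
      · exact Subtype.ext (h1 x hx)
      · exact Subtype.ext (h2 _ t ht)
    apply MulEquiv.ext
    intro x
    exact DFunLike.congr_fun h3 x
  -- extend `γ` to `Y C_S(Y)`
  have hWsc : F.StronglyClosed (Y ⊔ T) := StronglyClosed.sup hS hF hY hT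
  obtain ⟨-, hrec⟩ := H752.automized_receptive_of_stronglyClosed hF hWsc
  have hγm := (H802.mem_autGroup_iff F hWS γ).1 hγ
  have hr : ((Y ⊔ T).subtype.comp γ.toMonoidHom).range = Y ⊔ T :=
    H802.range_eq_of_mapsTo hγm fun x => (γ x).2
  obtain ⟨ψ, hψ, hψe⟩ := hrec.2 _ _ hγm hr
  have hN1 : Y ⊔ T ≤ extender S (Y ⊔ T) ((Y ⊔ T).subtype.comp γ.toMonoidHom) :=
    H802.le_extender hWS (H802.hom_apply_mem hγm)
  have hN2 : centralizerIn S Y ≤ extender S (Y ⊔ T) ((Y ⊔ T).subtype.comp γ.toMonoidHom) := by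
    intro c hc
    have hcn : ∀ x ∈ Y ⊔ T, c * x * c⁻¹ ∈ Y ⊔ T := fun x hx => StronglyClosed.conj_mem hWsc hc.1 hx
    have hcY : ∀ x ∈ Y, c * x * c⁻¹ = x := fun x hx => by
      rw [← Subgroup.mem_centralizer_iff.1 hc.2 x hx]
      group
    rw [H802.mem_extender_iff]
    refine ⟨hc.1, StronglyClosed.le_normalizer hWsc hc.1, c, hc.1, fun x hx => ?_⟩
    let φ₁ : (Y ⊔ T : Subgroup Ω) →* Ω := ((Y ⊔ T).subtype.comp γ.toMonoidHom).comp
      (((MulAut.conj c).toMonoidHom.comp (Y ⊔ T).subtype).codRestrict (Y ⊔ T) fun x => hcn x x.2)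
    let φ₂ : (Y ⊔ T : Subgroup Ω) →* Ω := (MulAut.conj c).toMonoidHom.comp ((Y ⊔ T).subtype.comp γ.toMonoidHom)
    have h1 : φ₁ = φ₂ := by
      refine hom_ext_sup (fun x hx => ?_) (fun t ht => ?_)
      · show ((γ ⟨c * x * c⁻¹, _⟩ : ↥(Y ⊔ T)) : Ω) = c * ((γ ⟨x, _⟩ : ↥(Y ⊔ T)) : Ω) * c⁻¹
        have h2 : (⟨c * x * c⁻¹, hcn x (hYW hx)⟩ : ↥(Y ⊔ T)) = ⟨x, hYW hx⟩ := Subtype.ext (hcY x hx)
        rw [h2, hγY x hx, hcY _ (α ⟨x, hx⟩).2]
      · show ((γ ⟨c * t * c⁻¹, _⟩ : ↥(Y ⊔ T)) : Ω) = c * ((γ ⟨t, _⟩ : ↥(Y ⊔ T)) : Ω) * c⁻¹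
        rw [hγT t ht]
        exact hγT _ (StronglyClosed.conj_mem hT hc.1 ht)
    exact DFunLike.congr_fun h1 x
  have hYCN := sup_le (hYW.trans hN1) hN2
  have hb0 : H752.Mp F (Y ⊔ centralizerIn S Y) (H752.ex ψ) := (H752.mp_ex hψ).res hYCN
  have hb0W : ∀ (x : Ω) (hx : x ∈ Y ⊔ T), H752.ex ψ x = (γ ⟨x, hx⟩ : ↥(Y ⊔ T)) := fun x hx => by
    rw [H752.ex_apply _ (hN1 hx)]
    exact hψe x hx _
  -- a map on `Y C_S(Y)` that restricts to `γ` preserves `C_S(Y)`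
  have hpres : ∀ b : Ω → Ω, H752.Mp F (Y ⊔ centralizerIn S Y) b →
      (∀ (x : Ω) (hx : x ∈ Y), b x = (α ⟨x, hx⟩ : Y)) → ∀ c ∈ centralizerIn S Y, b c ∈ centralizerIn S Y := by
    intro b hb hbα c hc
    refine ⟨hb.mem (hCC hc), Subgroup.mem_centralizer_iff.2 fun y hy => ?_⟩
    have h1 : b (α⁻¹ ⟨y, hy⟩ : Y) = y := by
      rw [hbα _ (α⁻¹ ⟨y, hy⟩).2]
      show ((α (α⁻¹ ⟨y, hy⟩) : Y) : Ω) = y
      rw [MulAut.apply_inv_self]
    rw [← h1, ← hb.mul (hYC (α⁻¹ ⟨y, hy⟩).2) (hCC hc), ← hb.mul (hCC hc) (hYC (α⁻¹ ⟨y, hy⟩).2),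
      Subgroup.mem_centralizer_iff.1 hc.2 _ (α⁻¹ ⟨y, hy⟩).2]
  have hb0Y : ∀ (x : Ω) (hx : x ∈ Y), H752.ex ψ x = (α ⟨x, hx⟩ : Y) := fun x hx => by
    rw [hb0W x (hYW hx), hγY x hx]
  have hb0m : ∀ x ∈ Y ⊔ centralizerIn S Y, H752.ex ψ x ∈ Y ⊔ centralizerIn S Y := by
    refine hb0.mem_sup (fun x hx => ?_) (fun c hc => hCC (hpres _ hb0 hb0Y c hc))
    rw [hb0Y x hx]
    exact hYC (α ⟨x, hx⟩).2
  obtain ⟨β₀, hβ₀, hβ₀e⟩ := hb0.exists_aut hb0m
  have hRβ₀ : H752.Restr hWC γ β₀ := fun x hx => by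
    rw [← hβ₀e x (hWC hx)]
    exact hb0W x hx
  obtain ⟨j, hR, hβc⟩ := hRβ₀.exists_coprime hγc
  obtain ⟨β, hβdef⟩ : ∃ β, β = β₀ ^ j := ⟨_, rfl⟩
  rw [← hβdef] at hR hβc
  have hβ : β ∈ F.autGroup (Y ⊔ centralizerIn S Y) := hβdef ▸ zpow_mem hβ₀ j
  obtain ⟨b, hb, hbβ⟩ := mp_of_exists hYCS hβ
  have hbY : ∀ (x : Ω) (hx : x ∈ Y), b x = (α ⟨x, hx⟩ : Y) := fun x hx => by
    rw [hbβ x (hYC hx), ← hγY x hx]
    exact hR x (hYW hx)
  have hbT : ∀ t ∈ T, b t = t := fun t ht => by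
    rw [hbβ t (hCC (hTC ht))]
    exact (hR t (hTW ht)).trans (hγT t ht)
  have hbC := hpres b hb hbY
  -- `V = C_S(Y) ∩ C_S(T)`
  obtain ⟨V, hV⟩ : ∃ V : Subgroup Ω, V = centralizerIn S Y ⊓ centralizerIn S T := ⟨_, rfl⟩
  have hVY : V ≤ centralizerIn S Y := hV ▸ inf_le_left
  have hVT : V ≤ centralizerIn S T := hV ▸ inf_le_right
  have hVYC : V ≤ Y ⊔ centralizerIn S Y := hVY.trans hCC
  have hTYC : T ≤ Y ⊔ centralizerIn S Y := hTC.trans hCC
  have hbV : ∀ v ∈ V, b v ∈ V := by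
    intro v hv
    rw [hV]
    refine ⟨hbC v (hVY hv), hb.mem (hVYC hv), Subgroup.mem_centralizer_iff.2 fun t ht => ?_⟩
    have h1 := Subgroup.mem_centralizer_iff.1 (hVT hv).2 t ht
    conv_lhs => rw [← hbT t ht]
    conv_rhs => rw [← hbT t ht]
    rw [← hb.mul (hTYC ht) (hVYC hv), ← hb.mul (hVYC hv) (hTYC ht), h1]
  have hfV : Finite V := H802.finite_of_le (hVT.trans inf_le_left)
  have hbVC : H752.Mp C V b := by
    refine (mp_centralizer_iff hC).2 ⟨hVT, fun v hv => hVT (hbV v hv), b, hb.res (sup_le hVYC hTYC),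
      fun _ _ => rfl, hbT⟩
  obtain ⟨ε, hε, hεb⟩ := hbVC.exists_aut hbV
  have hRε : H752.Restr hVYC ε β := fun v hv => by
    rw [← hεb v hv]
    exact (hbβ v (hVYC hv)).symm
  have hεc : Nat.Coprime (orderOf ε) p := Nat.Coprime.coprime_dvd_left hRε.orderOf_dvd hβc
  have hVhyp : ∀ v ∈ V, v⁻¹ * b v ∈ C.hyperfocalSubgroup p := by
    intro v hv
    rw [hεb v hv]
    exact H752.mem_hyperfocal hVT hε hεc ⟨v, hv⟩
  -- powers
  have hpow : ∀ (n : ℕ) (c : Ω) (hc : c ∈ Y ⊔ centralizerIn S Y),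
      (b^[n]) c = ((β ^ n) ⟨c, hc⟩ : ↥(Y ⊔ centralizerIn S Y)) := by
    intro n
    induction n with
    | zero => intro c hc; rfl
    | succ n ih =>
      intro c hc
      rw [Function.iterate_succ_apply', ih c hc, pow_succ', hbβ _ ((β ^ n) ⟨c, hc⟩).2]
      rfl
  refine ⟨b, hb, fun x hx => ?_, fun c hc' => ?_⟩
  · rw [hbY x hx, H752.ex_apply _ hx]
  have hbc := hbC c hc'
  have hxV : c⁻¹ * b c ∈ V := by
    rw [hV]
    refine ⟨Subgroup.mul_mem _ (Subgroup.inv_mem _ hc') hbc, Subgroup.mul_mem S (Subgroup.inv_mem S hc'.1) hbc.1,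
      Subgroup.mem_centralizer_iff.2 fun t ht => ?_⟩
    -- `b c * t * (b c)⁻¹ = c * t * c⁻¹`
    have h1 : c * t * c⁻¹ ∈ T := StronglyClosed.conj_mem hT hc'.1 ht
    have h2 : b (c * t * c⁻¹) = b c * t * (b c)⁻¹ := by
      rw [hb.mul (mul_mem (hCC hc') (hTYC ht)) (inv_mem (hCC hc')), hb.mul (hCC hc') (hTYC ht),
        hb.inv (hCC hc'), hbT t ht]
    rw [hbT _ h1] at h2
    have h3 : c * t * c⁻¹ * b c = b c * t := by rw [h2]; group
    calc t * (c⁻¹ * b c) = c⁻¹ * (c * t * c⁻¹ * b c) := by group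
      _ = c⁻¹ * (b c * t) := by rw [h3]
      _ = c⁻¹ * b c * t := by group
  obtain ⟨x, hx⟩ : ∃ x, x = c⁻¹ * b c := ⟨_, rfl⟩
  rw [← hx] at hxV ⊢
  have hkey : ∀ n : ℕ, c⁻¹ * (b^[n]) c ∈ V ∧ ∃ h ∈ C.hyperfocalSubgroup p, c⁻¹ * (b^[n]) c = x ^ n * h := by
    intro n
    induction n with
    | zero => exact ⟨by simp [one_mem], 1, one_mem _, by simp⟩
    | succ n ih =>
      obtain ⟨h1, h, hh, h2⟩ := ih
      obtain ⟨w, hw⟩ : ∃ w, w = c⁻¹ * (b^[n]) c := ⟨_, rfl⟩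
      rw [← hw] at h1 h2
      have h3 : (b^[n]) c = c * w := by rw [hw]; group
      have h4 : c⁻¹ * (b^[n + 1]) c = x * b w := by
        rw [Function.iterate_succ_apply', h3, hb.mul (hCC hc') (hVYC h1), hx]
        group
      rw [h4]
      refine ⟨mul_mem hxV (hbV w h1), h * (w⁻¹ * b w), mul_mem hh (hVhyp w h1), ?_⟩
      have h5 : x * b w = x * w * (w⁻¹ * b w) := by group
      rw [h5, h2, pow_succ']
      group
  obtain ⟨-, h, hh, h1⟩ := hkey (orderOf β)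
  rw [hpow _ c (hCC hc'), pow_orderOf_eq_one] at h1
  have h2 : x ^ orderOf β = h⁻¹ := by
    have h3 : (1 : Ω) = x ^ orderOf β * h := by
      rw [← h1]
      simp
    exact eq_inv_of_mul_eq_one_left h3.symm
  have hxS : x ∈ S := (hVT hxV).1
  have hxc : Nat.Coprime (orderOf β) (orderOf x) := by
    obtain ⟨k, hk⟩ := (IsPGroup.iff_orderOf.1 hS) ⟨x, hxS⟩
    rw [Subgroup.orderOf_mk] at hk
    rw [hk]
    exact hβc.pow_right k
  obtain ⟨m, hm⟩ := exists_pow_eq_self_of_coprime hxc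
  have hxh : x ∈ C.hyperfocalSubgroup p := by
    rw [← hm, h2]
    exact pow_mem (inv_mem hh) m
  exact ⟨hhyp hxh, (hVY hxV).2⟩

/-- **Normality** of the saturated subsystem of `p`-power index of `C_F(T)` over `Y`. -/
theorem isNormalIn_of_centralizer [Finite S] [Fact p.Prime] (hS : IsPGroup p S) (hF : F.IsSaturated p)
    (hT : F.StronglyClosed T) (hC : F.IsCentralizerSystem T C) (hCs : C.IsSaturated p)
    (hYT : Y ≤ centralizerIn S T) (hY : F.StronglyClosed Y) (hhyp : C.hyperfocalSubgroup p ≤ Y)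
    {D : FusionSystem Y} (hDs : D.IsSaturated p) (hD : D.HasPPowerIndexIn C p) : D.IsNormalIn F p := by
  have hfY : Finite Y := H802.finite_of_le hY.1
  have hfC : Finite (centralizerIn S T) := H802.finite_of_le inf_le_left
  have hI := invC_centralizer hS hF hT hC hYT hY hDs hD
  have hDC : D.IsNormalIn C p := H752.isNormalIn_of_pPowerIndex (hS.to_le inf_le_left) hCs hYT
    (fun s hs t ht => StronglyClosed.conj_mem hY hs.1 ht) hhyp hDs hD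
  have hDF : D.IsSubsystemOf F := fun P φ hφ => isSubsystemOf_centralizer hC P (hD.1 P hφ)
  rw [H752.isNormalIn_iff hY.1]
  refine ⟨hDs, hF, H752.isInvariantIn_iff.2 ⟨hDF, hY, hI, fun P f hP hf =>
    fratC_centralizer hF hT hC hYT hY hDC.1.2.2 hP hf⟩, fun a ha => ?_⟩
  refine H752.extC_of_prime hS hDs hY.1 (fun α hα hc => ?_) a ha
  have hαC : α ∈ C.autGroup Y := by
    rw [H752.mp_iff_autGroup hYT]
    exact H752.mp_mono hD.1 ((H752.mp_iff_autGroup le_rfl α).1 hα)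
  exact extC_centralizer hS hF hT hC hYT hY hhyp hαC hc

end Cfsg.Agent.H759
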