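import Cfsg.Agent.H759.FusTransportD

/-!
Conjugates of subnormal subsystems (and of components) of a saturated fusion system are subnormal (components).
-/

set_option autoImplicit false

namespace Cfsg.Agent.H759

open Cfsg Cfsg.FusionSystem

variable {Ω : Type*} [Group Ω]

theorem top_map_subtype {Ω : Type*} [Group Ω] (T : Subgroup Ω) : T = (⊤ : Subgroup T).map T.subtype := by
  rw [← MonoidHom.range_eq_map, Subgroup.range_subtype]

/-- the action of an element of `F.autGroup U` on an invariant subsystem, as a push-forward -/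
theorem isPush_of_invariant {S U : Subgroup Ω} {F : FusionSystem S} {D : FusionSystem U}
    (hinv : D.IsInvariantIn F) {α : MulAut U} (hα : α ∈ F.autGroup U)
    {hf₂ : Function.Injective (U.subtype.comp α.toMonoidHom)}
    {D' : FusionSystem (⊤ : Subgroup U)} (hD' : IsPush (Subgroup.subtype_injective U) D' D) :
    IsPush hf₂ D' D := by
  set f₂ := U.subtype.comp α.toMonoidHom with hf₂def
  have hf₂v : ∀ x : U, f₂ x = ((α x : U) : Ω) := fun x => rfl
  -- the transported map
  have key : ∀ β ∈ F.autGroup U, ∀ (P : Subgroup U) (φ : P →* U),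
      cb (Subgroup.subtype_injective U) φ ∈ D.Hom (P.map U.subtype) →
      ∀ (hβ : Function.Injective (U.subtype.comp β.toMonoidHom)),
      cb hβ φ ∈ D.Hom (P.map (U.subtype.comp β.toMonoidHom)) := by
    intro β hβ P φ hφ hβi
    have hPU : P.map U.subtype ≤ U := Subgroup.map_subtype_le P
    obtain ⟨χ, hχ, he⟩ := hinv.2.2.1 (P.map U.subtype) hPU _ hφ β hβ
    have himg : ((P.map U.subtype).subgroupOf U).map (U.subtype.comp β.toMonoidHom) =
        P.map (U.subtype.comp β.toMonoidHom) := by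
      congr 1
      ext x
      rw [Subgroup.mem_subgroupOf]
      constructor
      · rintro ⟨y, hy, hyx⟩
        have : y = x := Subtype.ext hyx
        rw [← this]; exact hy
      · intro hx; exact ⟨x, hx, rfl⟩
    refine mem_hom_of_eq D himg hχ (fun y hy hy' => ?_)
    obtain ⟨x, hx, rfl⟩ := hy'
    have h1 := cb_apply hβi φ ⟨x, hx⟩ ⟨x, hx, rfl⟩
    refine Eq.trans h1 ?_
    have h2 := cb_apply (Subgroup.subtype_injective U) φ ⟨x, hx⟩ ⟨x, hx, rfl⟩
    have h3 := he ⟨(x : Ω), ⟨x, hx, rfl⟩⟩ (by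
      have : cb (Subgroup.subtype_injective U) φ ⟨(x : Ω), ⟨x, hx, rfl⟩⟩ = (φ ⟨x, hx⟩ : U) := h2
      rw [this]; exact (φ ⟨x, hx⟩).2) hy
    refine Eq.trans ?_ h3.symm
    show ((β (φ ⟨x, hx⟩) : U) : Ω) = _
    congr 2
    exact Subtype.ext h2.symm
  refine ⟨?_, fun P φ => ?_⟩
  · rw [← MonoidHom.range_eq_map]
    ext x
    constructor
    · intro hx
      exact ⟨α⁻¹ ⟨x, hx⟩, by
        show ((α (α⁻¹ ⟨x, hx⟩) : U) : Ω) = x
        rw [MulAut.apply_inv_self]⟩
    · rintro ⟨y, rfl⟩
      exact (α y).2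
  · rw [← hD'.hom]
    constructor
    · intro hφ
      -- view `cb hf₂ φ` as a map between subgroups of `U`, then apply `α⁻¹`
      let P' : Subgroup U := P.map α.toMonoidHom
      have hαi : Function.Injective α.toMonoidHom := α.injective
      let φ' : P' →* U := cb hαi φ |>.comp (MonoidHom.id _)
      have hφ'v : ∀ (x : P), φ' ⟨α x, ⟨x, x.2, rfl⟩⟩ = α (φ x) := fun x => by
        exact cb_apply hαi φ x _
      have h1 : cb (Subgroup.subtype_injective U) φ' ∈ D.Hom (P'.map U.subtype) := by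
        have h2 : P.map f₂ = P'.map U.subtype := (Subgroup.map_map P U.subtype α.toMonoidHom).symm
        refine mem_hom_of_eq D h2 hφ (fun y hy hy' => ?_)
        obtain ⟨x, hx, rfl⟩ := hy
        have h3 := cb_apply hf₂ φ ⟨x, hx⟩ ⟨x, hx, rfl⟩
        refine Eq.trans ?_ h3.symm
        have h4 := cb_apply (Subgroup.subtype_injective U) φ' ⟨α x, ⟨x, hx, rfl⟩⟩
          ⟨α x, ⟨x, hx, rfl⟩, rfl⟩
        refine Eq.trans h4 ?_
        rw [hφ'v ⟨x, hx⟩]
        rfl
      have hβi : Function.Injective (U.subtype.comp (α⁻¹).toMonoidHom) :=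
        (Subgroup.subtype_injective U).comp (α⁻¹).injective
      have h5 := key α⁻¹ (inv_mem hα) P' φ' h1 hβi
      have h6 : P'.map (U.subtype.comp (α⁻¹).toMonoidHom) = P.map U.subtype := by
        ext y
        constructor
        · rintro ⟨_, ⟨x, hx, rfl⟩, rfl⟩
          refine ⟨x, hx, ?_⟩
          show (x : Ω) = ((α⁻¹ (α x) : U) : Ω)
          rw [MulAut.inv_apply_self]
        · rintro ⟨x, hx, rfl⟩
          refine ⟨α x, ⟨x, hx, rfl⟩, ?_⟩
          show ((α⁻¹ (α x) : U) : Ω) = x
          rw [MulAut.inv_apply_self]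
      refine mem_hom_of_eq D h6 h5 (fun y hy hy' => ?_)
      obtain ⟨x, hx, rfl⟩ := hy'
      have h7 := cb_apply (Subgroup.subtype_injective U) φ ⟨x, hx⟩ ⟨x, hx, rfl⟩
      refine Eq.trans h7 ?_
      have h8 : U.subtype.comp (α⁻¹).toMonoidHom (α x) = (x : Ω) := by
        show ((α⁻¹ (α x) : U) : Ω) = x
        rw [MulAut.inv_apply_self]
      have h9 := cb_apply hβi φ' ⟨α x, ⟨x, hx, rfl⟩⟩ ⟨α x, ⟨x, hx, rfl⟩, rfl⟩
      have h10 : (⟨U.subtype x, hy⟩ : P'.map (U.subtype.comp (α⁻¹).toMonoidHom)) =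
          ⟨U.subtype.comp (α⁻¹).toMonoidHom (α x), ⟨α x, ⟨x, hx, rfl⟩, rfl⟩⟩ := Subtype.ext h8.symm
      rw [h10]
      refine Eq.trans ?_ h9.symm
      rw [hφ'v ⟨x, hx⟩]
      show ((φ ⟨x, hx⟩ : U) : Ω) = ((α⁻¹ (α (φ ⟨x, hx⟩)) : U) : Ω)
      rw [MulAut.inv_apply_self]
    · intro hφ
      exact key α hα P φ hφ hf₂

/-- Conjugates of subnormal subsystems are subnormal. -/
theorem isSubnormalIn_conj {S T : Subgroup Ω} {p : ℕ} [Fact p.Prime] {C : FusionSystem T}
    {F : FusionSystem S} (hs : C.IsSubnormalIn F p) [Finite S] (γ : T →* Ω) (hγ : γ ∈ F.Hom T)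
    {R : Subgroup Ω} (E : FusionSystem R) (hE : C.IsFactorSystem ⊥ γ E) : E.IsSubnormalIn F p := by
  rename_i hpr hfin
  revert hpr hfin
  induction hs generalizing R γ with
  | @refl F p =>
    intro _ _
    have hRT : R = T := by
      rw [← hE.2.2.1]
      apply Subgroup.eq_of_le_of_card_ge
      · rintro _ ⟨x, rfl⟩
        exact (F.le_of_mem hγ).2 x
      · rw [← Nat.card_congr (MonoidHom.ofInjective (F.injective_of_mem hγ)).toEquiv]
    subst hRT
    have hEF : E = F := by
      apply fusionSystem_ext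
      intro P
      ext φ
      rw [hE.2.2.2]
      obtain ⟨γi, hγi, hγie⟩ := F.inv_mem hγ
      have hsurj : ∀ y ∈ R, ∃ x : R, γ x = y := fun y hy => by
        rw [← hE.2.2.1] at hy; exact hy
      constructor
      · rintro ⟨hP, ψ, hψ, h1, h2, h3, h4⟩
        -- `φ = γ ψ γ⁻¹`
        have hPr : P ≤ γ.range := by rw [hE.2.2.1]; exact hP
        have hg1 := res_mem_comp F hγi hPr
        have hm1 : ∀ y : P, (γi.comp (Subgroup.inclusion hPr)) y ∈ preimageAlong γ P := by
          intro y
          obtain ⟨x, hx⟩ := hsurj y (hP y.2)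
          have h5 : (Subgroup.inclusion hPr y : γ.range) = ⟨γ x, ⟨x, rfl⟩⟩ := Subtype.ext hx.symm
          show γi (Subgroup.inclusion hPr y) ∈ _
          rw [h5, hγie]
          exact mem_preimageAlong.2 ⟨x.2, by
            show γ x ∈ P
            rw [hx]; exact y.2⟩
        have hg2 := F.comp_mem hg1 hψ hm1
        refine comp_mem' F hg2 hγ (fun y => ⟨h2 _, ?_⟩)
        obtain ⟨x, hx⟩ := hsurj y (hP y.2)
        have hxpre : (x : Ω) ∈ preimageAlong γ P := mem_preimageAlong.2 ⟨x.2, by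
          show γ x ∈ P
          rw [hx]; exact y.2⟩
        have h5 : (Subgroup.inclusion hPr y : γ.range) = ⟨γ x, ⟨x, rfl⟩⟩ := Subtype.ext hx.symm
        have h6 := h4 ⟨x, hxpre⟩
        have h7 : (⟨γ ⟨x, h1 hxpre⟩, h3 ⟨x, hxpre⟩⟩ : P) = y := Subtype.ext hx
        rw [h7] at h6
        rw [h6]
        congr 1
        apply Subtype.ext
        show ψ ⟨x, hxpre⟩ = ψ ⟨γi (Subgroup.inclusion hPr y), _⟩
        congr 1
        apply Subtype.ext
        show (x : Ω) = γi (Subgroup.inclusion hPr y)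
        rw [h5, hγie]
      · intro hφ
        have hPR := (F.le_of_mem hφ).1
        refine ⟨hPR, ?_⟩
        have hg := res_mem_comp F hγ (R := preimageAlong γ P) preimageAlong_le
        have hm1 : ∀ x : preimageAlong γ P, (γ.comp (Subgroup.inclusion preimageAlong_le)) x ∈ P :=
          fun x => (mem_preimageAlong.1 x.2).2
        have hg2 := F.comp_mem hg hφ hm1
        have hm2 : ∀ x : preimageAlong γ P,
            (φ.comp ((γ.comp (Subgroup.inclusion preimageAlong_le)).codRestrict P hm1)) x ∈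
              γ.range := fun x => by
          rw [hE.2.2.1]; exact (F.le_of_mem hφ).2 _
        have hg3 := F.comp_mem hg2 hγi hm2
        have hval : ∀ (x : preimageAlong γ P) (hy : (γi.comp (MonoidHom.codRestrict _ γ.range hm2)) x ∈ R),
            γ ⟨(γi.comp (MonoidHom.codRestrict _ γ.range hm2)) x, hy⟩ =
              φ ⟨γ ⟨x, preimageAlong_le x.2⟩, hm1 x⟩ := by
          intro x hy
          obtain ⟨z, hz⟩ := hm2 x
          have h5 : (⟨_, hm2 x⟩ : γ.range) = ⟨γ z, ⟨z, rfl⟩⟩ := Subtype.ext hz.symm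
          have h6 : (γi.comp (MonoidHom.codRestrict _ γ.range hm2)) x = z := by
            show γi ⟨_, hm2 x⟩ = z
            rw [h5, hγie]
          have h7 : (⟨(γi.comp (MonoidHom.codRestrict _ γ.range hm2)) x, hy⟩ : R) = z :=
            Subtype.ext h6
          rw [h7, hz]
          rfl
        exact ⟨_, hg3, preimageAlong_le, (F.le_of_mem hg3).2, hm1, fun x => (hval x _).symm⟩
    rw [hEF]
    exact IsSubnormalIn.refl _ _
  | @step U S C D F p h1 h2 ih =>
    intro _ _
    have hUS : U ≤ S := h2.1.2.2.2.1.1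
    have hfU : Finite U := Finite.of_injective _ (Subgroup.inclusion_injective hUS)
    have hTU : T ≤ U := IsSubnormalIn.le h1
    have hfT : Finite T := Finite.of_injective _ (Subgroup.inclusion_injective hTU)
    -- Frattini condition
    obtain ⟨α, hα, φ₀, hφ₀, he⟩ := h2.1.2.2.2.2.2 T hTU γ hγ
    have hφ₀i := D.injective_of_mem hφ₀
    obtain ⟨E₀, hE₀⟩ := exists_factorSystem (F := C) (S₀ := ⊥) (θ := φ₀) (S' := φ₀.range)
      StronglyClosed.bot (fun s => by
        rw [Subgroup.mem_bot, map_eq_one_iff φ₀ hφ₀i]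
        exact ⟨fun h => by rw [h]; rfl, fun h => Subtype.ext h⟩) rfl
    have hE₀s := ih φ₀ hφ₀ E₀ hE₀
    -- view everything inside `U`
    obtain ⟨D', hD'⟩ := exists_pull' (hf := Subgroup.subtype_injective U) (top_map_subtype U) D
    obtain ⟨C', hC'⟩ := exists_pull' (hf := Subgroup.subtype_injective T) (top_map_subtype T) C
    let g₀ : T →* U := φ₀.codRestrict U (D.le_of_mem hφ₀).2
    have hg₀ : Function.Injective g₀ := fun a b hab => hφ₀i (congrArg Subtype.val hab)
    obtain ⟨X, hX⟩ := exists_push hg₀ C'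
    have hpE₀ : IsPush hφ₀i C' E₀ := isPush_of_isFactorSystem_bot hE₀ hC'
    have hXE₀ : IsPush (Subgroup.subtype_injective U) X E₀ := hX.cancel hpE₀ (fun x => rfl)
    have hXs : X.IsSubnormalIn D' p := IsPush.isSubnormalIn_rev hD' hE₀s hXE₀
    have hf₂ : Function.Injective (U.subtype.comp α.toMonoidHom) :=
      (Subgroup.subtype_injective U).comp α.injective
    have hγi := F.injective_of_mem hγ
    have hpE : IsPush hγi C' E := isPush_of_isFactorSystem_bot hE hC'
    have hXE : IsPush hf₂ X E := hX.cancel hpE (fun x => he x ((D.le_of_mem hφ₀).2 x))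
    have hDD : IsPush hf₂ D' D := isPush_of_invariant h2.1.2.2 hα hD'
    exact IsSubnormalIn.step (IsPush.isSubnormalIn hDD hXs hXE) h2

/-- The conjugate of a quasisimple system is quasisimple. -/
theorem quasisimple_of_isFactorSystem_bot {Ω' : Type*} [Group Ω'] {T : Subgroup Ω} [Finite T]
    {R : Subgroup Ω'} {p : ℕ}
    [Fact p.Prime] {C : FusionSystem T} {γ : T →* Ω'} (hγ : Function.Injective γ) {E : FusionSystem R}
    (hE : C.IsFactorSystem ⊥ γ E) (hC : C.Quasisimple p) : E.Quasisimple p := by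
  obtain ⟨C', hC'⟩ := exists_pull' (hf := Subgroup.subtype_injective T) (top_map_subtype T) C
  have hpE : IsPush hγ C' E := isPush_of_isFactorSystem_bot hE hC'
  exact hpE.quasisimple_iff.2 (hC'.quasisimple_iff.1 hC)

end Cfsg.Agent.H759
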