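import Cfsg.Agent.H759.FusTransportD
import Cfsg.Agent.H759.FusConjSub
import Cfsg.Agent.H752.Ext
import Cfsg.Agent.H802.FusSub

/-!
# The subsystem `O^{p'}(F)` is invariant in `F`; uniqueness of `p`-power index subsystems (helper759)
-/

set_option autoImplicit false

namespace Cfsg.Agent.H759

open Cfsg Cfsg.FusionSystem

/-- The subgroup generated by the elements of `p`-power order, and isomorphisms. -/
theorem map_pClosure_subtype {G H : Type*} [Group G] [Group H] (e : G ≃* H) (p : ℕ) (A : Subgroup G)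
    (B : Subgroup H) (hB : B = A.map e.toMonoidHom) :
    (Subgroup.closure {β : B | ∃ k : ℕ, orderOf β = p ^ k}).map B.subtype =
      ((Subgroup.closure {α : A | ∃ k : ℕ, orderOf α = p ^ k}).map A.subtype).map e.toMonoidHom := by
  subst hB
  rw [MonoidHom.map_closure, MonoidHom.map_closure, MonoidHom.map_closure]
  congr 1
  ext y
  constructor
  · rintro ⟨⟨_, x, hx, rfl⟩, hy, rfl⟩
    refine ⟨x, ⟨⟨x, hx⟩, ?_, rfl⟩, rfl⟩
    rw [Set.mem_ofPred_eq] at hy ⊢
    rw [← Subgroup.orderOf_coe] at hy ⊢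
    have h1 : orderOf (e x) = orderOf x := MulEquiv.orderOf_eq e x
    exact h1 ▸ hy
  · rintro ⟨_, ⟨⟨x, hx⟩, hy, rfl⟩, rfl⟩
    refine ⟨⟨e x, ⟨x, hx, rfl⟩⟩, ?_, rfl⟩
    rw [Set.mem_ofPred_eq] at hy ⊢
    rw [← Subgroup.orderOf_coe] at hy ⊢
    have h1 : orderOf (e x) = orderOf x := MulEquiv.orderOf_eq e x
    exact h1.symm ▸ hy

section transport

variable {Ω₁ Ω₂ : Type*} [Group Ω₁] [Group Ω₂] {f : Ω₁ →* Ω₂} {hf : Function.Injective f}
  {S₁ : Subgroup Ω₁} {S₂ : Subgroup Ω₂} {X₁ F₁ : FusionSystem S₁} {X₂ F₂ : FusionSystem S₂}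

theorem IsPush.hasPrimeToPIndexIn_iff (h : IsPush hf X₁ X₂) (hF : IsPush hf F₁ F₂) {p : ℕ} :
    X₂.HasPrimeToPIndexIn F₂ p ↔ X₁.HasPrimeToPIndexIn F₁ p := by
  unfold FusionSystem.HasPrimeToPIndexIn
  have hsub := h.isSubsystemOf_iff hF
  have hres : ∀ P : Subgroup Ω₁,
      (Subgroup.closure {α : F₂.autGroup (P.map f) | ∃ k : ℕ, orderOf α = p ^ k}).map
        (F₂.autGroup (P.map f)).subtype ≤ X₂.autGroup (P.map f) ↔
      (Subgroup.closure {α : F₁.autGroup P | ∃ k : ℕ, orderOf α = p ^ k}).map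
        (F₁.autGroup P).subtype ≤ X₁.autGroup P := fun P => by
    rw [map_pClosure_subtype (ca hf P) p _ _ (hF.autGroup_eq P), h.autGroup_eq P]
    exact Subgroup.map_le_map_iff_of_injective (ca hf P).injective
  rw [hsub]
  refine and_congr Iff.rfl ⟨fun h1 P hP => ?_, fun h1 P' hP' => ?_⟩
  · exact (hres P).1 (h1 _ (h.map_le_iff.2 hP))
  · obtain ⟨P, rfl, hP⟩ := h.exists_source hP'
    exact (hres P).2 (h1 P hP)

end transport

section inv

variable {Ω : Type*} [Group Ω] {S : Subgroup Ω} {F : FusionSystem S}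

/-- A system is invariant in itself. -/
theorem isInvariantIn_self (F : FusionSystem S) : F.IsInvariantIn F := by
  refine ⟨fun P => subset_rfl, StronglyClosed.top, fun P hPS φ hφ α hα => ?_, fun P hP φ hφ => ?_⟩
  · have hA : S.subtype.comp α.toMonoidHom ∈ F.Hom S := (mem_autGroup F le_rfl).1 hα
    set R := (P.subgroupOf S).map (S.subtype.comp α.toMonoidHom) with hR
    obtain ⟨β, hβ, hβe⟩ := exists_inv F hA (R := R) (by
      rintro _ ⟨x, -, rfl⟩
      exact ⟨x, rfl⟩)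
    have hφS : ∀ x : P, φ x ∈ S := (F.le_of_mem hφ).2
    -- β maps R into P
    have hβP : ∀ y : R, β y ∈ P := by
      rintro ⟨y, x, hx, hxy⟩
      have h1 := hβe x (by rw [hxy]; exact ⟨x, hx, hxy⟩)
      have h2 : (⟨(S.subtype.comp α.toMonoidHom) x, by rw [hxy]; exact ⟨x, hx, hxy⟩⟩ : R) =
        ⟨y, x, hx, hxy⟩ := Subtype.ext hxy
      rw [h2] at h1
      rw [h1]
      exact hx
    have h3 := F.comp_mem (F.comp_mem hβ hφ hβP) hA (fun y => hφS _)
    refine ⟨_, h3, fun x hφx hαx => ?_⟩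
    show ((α ⟨φ ⟨β ⟨(α ⟨x, hPS x.2⟩ : S), hαx⟩, _⟩, _⟩ : S) : Ω) = _
    have h4 : β ⟨(α ⟨x, hPS x.2⟩ : S), hαx⟩ = x := hβe ⟨x, hPS x.2⟩ hαx
    congr 2
    apply Subtype.ext
    show φ _ = φ x
    congr 1
    exact Subtype.ext h4
  · exact ⟨1, one_mem _, φ, hφ, fun x hx => rfl⟩

/-- `O^{p'}(F)` is invariant under the automorphisms of `S` in `F`. -/
theorem invC_of_isPPrimeResidual [Finite S] {p : ℕ} [Fact p.Prime] {E : FusionSystem S}
    (hE : F.IsPPrimeResidual p E) : H752.InvC E F := by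
  intro P R f a h hf ha hR
  obtain ⟨hEs, hEi, hEm⟩ := hE
  obtain ⟨α, hα, hαa⟩ := ha.exists_aut (fun x hx => ha.mem hx)
  -- the systems viewed inside the group `S`
  obtain ⟨F', hF'⟩ := exists_pull' (hf := Subgroup.subtype_injective S) (top_map_subtype S) F
  obtain ⟨E', hE'⟩ := exists_pull' (hf := Subgroup.subtype_injective S) (top_map_subtype S) E
  have hα' : α⁻¹ ∈ F.autGroup S := inv_mem hα
  have hi : Function.Injective (S.subtype.comp (α⁻¹).toMonoidHom) :=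
    (Subgroup.subtype_injective S).comp (α⁻¹).injective
  have hF₂ : IsPush hi F' F := isPush_of_invariant (isInvariantIn_self F) hα' hF'
  obtain ⟨E₂, hE₂⟩ := exists_push' (hf := hi) hF₂.carrier E'
  have hfin : Finite (⊤ : Subgroup S) := inferInstance
  have hE's : E'.IsSaturated p := hE'.isSaturated_iff.1 hEs
  have hE₂s : E₂.IsSaturated p := hE₂.isSaturated_iff.2 hE's
  have hE'i : E'.HasPrimeToPIndexIn F' p := (hE'.hasPrimeToPIndexIn_iff hF').1 hEi
  have hE₂i : E₂.HasPrimeToPIndexIn F p := (hE₂.hasPrimeToPIndexIn_iff hF₂).2 hE'i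
  have hle := hEm E₂ hE₂s hE₂i
  obtain ⟨φ, hφ, hφf⟩ := hf
  have hPS : P ≤ S := (E.le_of_mem hφ).1
  have hφ₂ : φ ∈ E₂.Hom P := hle P hφ
  obtain ⟨P₁, rfl, hP₁⟩ := hE₂.exists_source hPS
  obtain ⟨φ₁, hφ₁, rfl⟩ := hE₂.exists_of_mem hφ₂
  have hφ₁' : cb (Subgroup.subtype_injective S) φ₁ ∈ E.Hom (P₁.map S.subtype) := (hE'.hom P₁ φ₁).2 hφ₁
  have hRle : R ≤ P₁.map S.subtype := by
    intro y hy
    obtain ⟨x, ⟨z, hz, rfl⟩, hxy, -⟩ := hR y hy
    refine ⟨z, hz, ?_⟩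
    have h1 : (S.subtype.comp (α⁻¹).toMonoidHom) z = ((α⁻¹ z : S) : Ω) := rfl
    rw [h1, hαa _ (α⁻¹ z).2] at hxy
    rw [← hxy]
    show (z : Ω) = ((α (α⁻¹ z) : S) : Ω)
    rw [MulAut.apply_inv_self]
  refine ⟨(cb (Subgroup.subtype_injective S) φ₁).comp (Subgroup.inclusion hRle),
    res_mem_comp E hφ₁' hRle, fun y hy => ?_⟩
  obtain ⟨x, ⟨z, hz, rfl⟩, hxy, hhy⟩ := hR y hy
  have h1 : (S.subtype.comp (α⁻¹).toMonoidHom) z = ((α⁻¹ z : S) : Ω) := rfl
  have h2 : (z : Ω) = y := by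
    rw [h1, hαa _ (α⁻¹ z).2] at hxy
    rw [← hxy]
    show (z : Ω) = ((α (α⁻¹ z) : S) : Ω)
    rw [MulAut.apply_inv_self]
  have h3 : f ((S.subtype.comp (α⁻¹).toMonoidHom) z) = ((α⁻¹ (φ₁ ⟨z, hz⟩) : S) : Ω) := by
    rw [← hφf _ ⟨z, hz, rfl⟩]
    exact cb_apply hi φ₁ ⟨z, hz⟩ ⟨z, hz, rfl⟩
  rw [hhy, h3, hαa _ (α⁻¹ (φ₁ ⟨z, hz⟩)).2]
  show cb (Subgroup.subtype_injective S) φ₁ ⟨y, _⟩ = ((α (α⁻¹ (φ₁ ⟨z, hz⟩)) : S) : Ω)
  rw [MulAut.apply_inv_self]
  have h4 := cb_apply (Subgroup.subtype_injective S) φ₁ ⟨z, hz⟩ ⟨z, hz, rfl⟩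
  have h5 : (⟨y, hRle hy⟩ : P₁.map S.subtype) = ⟨S.subtype ((⟨z, hz⟩ : P₁) : S), ⟨z, hz, rfl⟩⟩ :=
    Subtype.ext h2.symm
  rw [h5]
  exact h4

theorem exists_pClosure_mul {A : Type*} [Group A] [Finite A] {p : ℕ} [Fact p.Prime] (R : Sylow p A) (a : A) :
    ∃ b ∈ Subgroup.closure {α : A | ∃ k : ℕ, orderOf α = p ^ k},
      ∃ c ∈ Subgroup.normalizer ((R : Subgroup A) : Set A), a = b * c := by
  set N := Subgroup.closure {α : A | ∃ k : ℕ, orderOf α = p ^ k} with hN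
  have hRN : (R : Subgroup A) ≤ N := by
    intro x hx
    obtain ⟨k, hk⟩ := (IsPGroup.iff_orderOf.1 R.isPGroup') ⟨x, hx⟩
    refine Subgroup.subset_closure ⟨k, ?_⟩
    rw [← hk, Subgroup.orderOf_mk]
  have hNn : N.Normal := by
    refine ⟨fun n hn g => ?_⟩
    refine Subgroup.closure_induction (p := fun x _ => g * x * g⁻¹ ∈ N) ?_ ?_ ?_ ?_ hn
    · rintro x ⟨k, hk⟩
      refine Subgroup.subset_closure ⟨k, ?_⟩
      rw [← hk]
      exact orderOf_injective (MulAut.conj g).toMonoidHom (MulAut.conj g).injective x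
    · simp
    · intro x y _ _ hx hy
      have : g * (x * y) * g⁻¹ = (g * x * g⁻¹) * (g * y * g⁻¹) := by group
      rw [this]
      exact mul_mem hx hy
    · intro x _ hx
      have : g * x⁻¹ * g⁻¹ = (g * x * g⁻¹)⁻¹ := by group
      rw [this]
      exact inv_mem hx
  have h1 := Sylow.normalizer_sup_eq_top' R hRN
  have h2 : a ∈ Subgroup.normalizer ((R : Subgroup A) : Set A) ⊔ N := by
    have h3 := Subgroup.mem_top a
    rw [← h1] at h3
    exact h3
  rw [sup_comm, Subgroup.mem_sup_of_normal_left] at h2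
  obtain ⟨b, hb, c, hc, hbc⟩ := h2
  exact ⟨b, hb, c, hc, hbc.symm⟩

/-- The Frattini condition for a subsystem over `S` of index prime to `p` that is invariant under `Aut_F(S)`. -/
theorem fratC_of_primeToP [Finite S] {p : ℕ} [Fact p.Prime] (hS : IsPGroup p S) (hF : F.IsSaturated p)
    {E : FusionSystem S} (hI : H752.InvC E F) (hEi : E.HasPrimeToPIndexIn F p) :
    ∀ (P : Subgroup Ω) (f : Ω → Ω), H752.Mp F P f → H752.FratC E F P f := by
  have hT : F.StronglyClosed S := StronglyClosed.top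
  refine H752.mp_induction F hS hF (fun P f => H752.FratC E F P f) ?_ ?_ ?_ ?_ ?_
  · intro P f g _ h he
    exact h.congr he
  · intro P R f _ h hR
    exact h.res hR
  · intro P Q f g _ _ h1 h2 hPQ
    exact h1.comp hT hI h2 hPQ
  · intro P R f g _ h1 _ hinv
    exact h1.symm hT hI hinv
  · intro Q hQa hQr IH α hα f hf
    have hQS : Q ≤ S := hQa.1
    have hfQ : Finite Q := H802.finite_of_le hQS
    by_cases hQ : Q = S
    · subst hQ
      exact ⟨f, H752.mp_of_autGroup le_rfl hα hf, fun x => x, H752.mp_id E le_rfl, fun _ _ => rfl⟩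
    obtain ⟨B, hB⟩ := hQa.2
    have hfA : Finite (F.autGroup Q) := inferInstance
    obtain ⟨b, hb, c, hc, hbc⟩ := exists_pClosure_mul B ⟨α, hα⟩
    have hbE : (b : MulAut Q) ∈ E.autGroup Q := hEi.2 Q hQS ⟨b, hb, rfl⟩
    have hcn : ∀ δ ∈ autInducedBy S Q, (c : MulAut Q) * δ * (c : MulAut Q)⁻¹ ∈ autInducedBy S Q := by
      intro δ hδ
      have hδF : δ ∈ F.autGroup Q := H802.autInducedBy_le_autGroup F hQS hδ
      have h1 : (⟨δ, hδF⟩ : F.autGroup Q) ∈ (B : Subgroup (F.autGroup Q)) := by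
        rw [hB, Subgroup.mem_subgroupOf]; exact hδ
      have h2 := (Subgroup.mem_normalizer_iff.1 hc ⟨δ, hδF⟩).1 h1
      rw [hB, Subgroup.mem_subgroupOf] at h2
      exact h2
    obtain ⟨ψ, hψ, hψe⟩ := H802.exists_extension_of_normalizes hQr c.2 hcn
    have hlt : Nat.card Q < Nat.card (normalizerIn S Q) := H802.card_lt_card_normalizerIn hS hQS hQ
    have h1 := (IH _ (H752.ex ψ) (H752.mp_ex hψ) hlt).res (le_normalizerIn hQS)
    have h2 : H752.FratC E F Q (H752.ex (fun x => (((b : MulAut Q) x : Q) : Ω))) :=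
      H752.FratC.of_mp le_rfl ((H752.mp_iff_autGroup hQS _).1 hbE)
    have h3 : ∀ x ∈ Q, H752.ex ψ x ∈ Q := fun x hx => by
      rw [H752.ex_apply _ (le_normalizerIn hQS hx), hψe x hx]
      exact ((c : MulAut Q) _).2
    refine (h1.comp hT hI h2 h3).congr fun x hx => ?_
    rw [hf x hx]
    have h4 : α = (b : MulAut Q) * c := congrArg Subtype.val hbc
    have h5 : H752.ex ψ x = ((c : MulAut Q) ⟨x, hx⟩ : Q) := by
      rw [H752.ex_apply _ (le_normalizerIn hQS hx), hψe x hx]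
    rw [h4, h5, H752.ex_apply _ ((c : MulAut Q) ⟨x, hx⟩).2]
    rfl

/-- `O^{p'}(F)` is invariant in `F`. -/
theorem isInvariantIn_of_isPPrimeResidual [Finite S] {p : ℕ} [Fact p.Prime] (hS : IsPGroup p S)
    (hF : F.IsSaturated p) {E : FusionSystem S} (hE : F.IsPPrimeResidual p E) : E.IsInvariantIn F := by
  have hI := invC_of_isPPrimeResidual hE
  rw [H752.isInvariantIn_iff]
  exact ⟨hE.2.1.1, StronglyClosed.top, hI, fun P f _ hf => fratC_of_primeToP hS hF hI hE.2.1 P f hf⟩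

end inv

section unique

variable {Ω : Type*} [Group Ω] {S T : Subgroup Ω} {F : FusionSystem S}

/-- A saturated subsystem over `T` of `p`-power index is contained in every subsystem over `T` of `p`-power index. -/
theorem isSubsystemOf_of_pPowerIndex [Finite T] {p : ℕ} [Fact p.Prime] (hT : IsPGroup p T)
    (hTS : T ≤ S) {D D' : FusionSystem T} (hD : D.IsSaturated p) (hDF : D.IsSubsystemOf F)
    (hD' : D'.HasPPowerIndexIn F p) : D.IsSubsystemOf D' := by
  refine H752.isSubsystemOf_of_mp (H752.mp_generation D hT hD (fun P f => H752.Mp D' P f) ?_ ?_ ?_ ?_ ?_ ?_)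
  · intro P f g _ h he
    exact h.congr he
  · intro P R f _ h hR
    exact h.res hR
  · intro P Q f g _ _ h1 h2 hPQ
    exact h1.comp h2 hPQ
  · intro P R f g _ h1 _ hinv
    exact h1.symm hinv
  · intro P hP s hs
    exact H752.mp_conj D' hP hs
  · intro Q hQa hQr α hα hc f hf
    have hQT : Q ≤ T := hQa.1
    have hαF : α ∈ F.autGroup Q := by
      rw [mem_autGroup F (hQT.trans hTS)]
      exact hDF Q ((mem_autGroup D hQT).1 hα)
    have h1 : α ∈ D'.autGroup Q := hD'.2.2 Q hQT ⟨⟨α, hαF⟩, H752.mem_residual hαF hc, rfl⟩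
    exact H752.mp_of_autGroup hQT h1 hf

end unique

end Cfsg.Agent.H759
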