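import Cfsg.Agent.H759.ResInv
import Cfsg.Agent.H759.FusSolvable
import Cfsg.Agent.H747.Hyperfocal

/-!
# A system whose alternating residual series terminates is constrained (helper759)
-/

set_option autoImplicit false

namespace Cfsg.Agent.H759

open Cfsg Cfsg.FusionSystem
open scoped commutatorElement

variable {Ω : Type*} [Group Ω] {S T : Subgroup Ω} {F : FusionSystem S} {E : FusionSystem T}

/-- A chain of strongly closed subgroups with abelian factors from `⊥` to `R`. -/
def ChainTo (F : FusionSystem S) (R : Subgroup Ω) : Prop :=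
  ∃ (m : ℕ) (c : ℕ → Subgroup Ω), c 0 = ⊥ ∧ c m = R ∧ (∀ i, F.StronglyClosed (c i)) ∧
    (∀ i, c i ≤ c (i + 1)) ∧ ∀ i, ⁅c (i + 1), c (i + 1)⁆ ≤ c i

theorem chainTo_top_iff : ChainTo F S ↔ HasChain F ⊥ := Iff.rfl

theorem commutator_self_le (R : Subgroup Ω) : ⁅R, R⁆ ≤ R := by
  rw [Subgroup.commutator_le]
  intro x hx y hy
  exact mul_mem (mul_mem (mul_mem hx hy) (inv_mem hx)) (inv_mem hy)

theorem ChainTo.extend {R R' : Subgroup Ω} (h : ChainTo F R) (hR' : F.StronglyClosed R') (hle : R ≤ R')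
    (hc : ⁅R', R'⁆ ≤ R) : ChainTo F R' := by
  obtain ⟨m, c, h0, hm, h1, h2, h3⟩ := h
  refine ⟨m + 1, fun i => if i ≤ m then c i else R', ?_, ?_, ?_, ?_, ?_⟩
  · simp [h0]
  · simp
  · intro i
    dsimp only
    split_ifs
    · exact h1 i
    · exact hR'
  · intro i
    dsimp only
    split_ifs with h4 h5 h6
    · exact h2 i
    · have : i = m := by omega
      rw [this, hm]; exact hle
    · omega
    · exact le_rfl
  · intro i
    dsimp only
    split_ifs with h4 h5 h6
    · exact h3 i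
    · omega
    · have : i = m := by omega
      rw [this, hm]; exact hc
    · exact commutator_self_le R'

/-- The largest subgroup of `P ∩ T` invariant under `Aut_F(T)`. -/
def invCore (F : FusionSystem S) (T P : Subgroup Ω) : Subgroup Ω where
  carrier := {x | x ∈ T ∧ ∀ a : Ω → Ω, H752.Mp F T a → a x ∈ P}
  one_mem' := ⟨one_mem T, fun a ha => by rw [ha.one]; exact one_mem P⟩
  mul_mem' := by
    rintro x y ⟨hx, hx'⟩ ⟨hy, hy'⟩
    refine ⟨mul_mem hx hy, fun a ha => ?_⟩
    rw [ha.mul hx hy]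
    exact mul_mem (hx' a ha) (hy' a ha)
  inv_mem' := by
    rintro x ⟨hx, hx'⟩
    refine ⟨inv_mem hx, fun a ha => ?_⟩
    rw [ha.inv hx]
    exact inv_mem (hx' a ha)

theorem mem_invCore {P : Subgroup Ω} {x : Ω} :
    x ∈ invCore F T P ↔ x ∈ T ∧ ∀ a : Ω → Ω, H752.Mp F T a → a x ∈ P := Iff.rfl

/-- The chain of a subsystem invariant in `F`, made strongly closed in `F`. -/
theorem chainTo_of_isInvariantIn [Finite S] (hE : E.IsInvariantIn F) (h : ChainTo E T) : ChainTo F T := by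
  have hTS : T ≤ S := hE.2.1.1
  have hTf : Finite T := H802.finite_of_le hTS
  obtain ⟨h1, hT, hI, hFr⟩ := H752.isInvariantIn_iff.1 hE
  obtain ⟨m, c, h0, hm, hsc, hmono, hcomm⟩ := h
  refine ⟨m, fun i => invCore F T (c i), ?_, ?_, fun i => ?_, fun i => ?_, fun i => ?_⟩
  · dsimp only
    rw [h0, eq_bot_iff]
    rintro x ⟨hx, hx'⟩
    exact hx' (fun x => x) (H752.mp_id F hTS)
  · dsimp only
    rw [hm]
    apply le_antisymm
    · rintro x ⟨hx, -⟩
      exact hx
    · intro x hx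
      exact ⟨hx, fun a ha => H752.mp_mem_of_stronglyClosed hT ha hx hx⟩
  · refine H752.stronglyClosed_of_mp (fun x hx => hTS hx.1) fun R f hf hR x hx => ?_
    have hRT : R ≤ T := fun x hx => (hR hx).1
    have hfT : f x ∈ T := H752.mp_mem_of_stronglyClosed hT hf hx (hRT hx)
    refine ⟨hfT, fun b hb => ?_⟩
    obtain ⟨a, ha, f₀, hf₀, he⟩ := hFr R f hRT hf
    have haT : ∀ x ∈ T, a x ∈ T := fun x hx => H752.mp_mem_of_stronglyClosed hT ha hx hx
    have hba : H752.Mp F T (fun x => b (a x)) := ha.comp hb haT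
    obtain ⟨R₁, hR₁, hR₁S, -⟩ := hba.exists_image hRT
    obtain ⟨g, hg, hg1, hg2⟩ := hba.exists_symm hRT hR₁
    -- the transported map
    have hχ : H752.Mp E R₁ (fun y => b (a (f₀ (g y)))) := by
      refine hI R R₁ f₀ (fun x => b (a x)) _ hf₀ hba fun y hy => ?_
      exact ⟨g y, (hg2 y hy).1, (hg2 y hy).2, rfl⟩
    have hR₁c : R₁ ≤ c i := by
      intro y hy
      have h2 := hg2 y hy
      rw [← h2.2]
      exact (hR h2.1).2 _ hba
    have hx₁ : b (a x) ∈ R₁ := (hR₁ _).2 ⟨x, hx, rfl⟩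
    have h3 := H752.mp_mem_of_stronglyClosed (hsc i) hχ hx₁ (hR₁c hx₁)
    rw [show g (b (a x)) = x from hg1 x hx] at h3
    rw [he x hx]
    exact h3
  · rintro x ⟨hx, hx'⟩
    exact ⟨hx, fun a ha => hmono i (hx' a ha)⟩
  · rw [Subgroup.commutator_le]
    rintro x ⟨hx, hx'⟩ y ⟨hy, hy'⟩
    refine ⟨commutator_self_le T (Subgroup.commutator_mem_commutator hx hy), fun a ha => ?_⟩
    have h2 : a ⁅x, y⁆ = ⁅a x, a y⁆ := by
      rw [commutatorElement_def, commutatorElement_def, ha.mul (mul_mem (mul_mem hx hy) (inv_mem hx)) (inv_mem hy),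
        ha.mul (mul_mem hx hy) (inv_mem hx), ha.mul hx hy, ha.inv hx, ha.inv hy]
    rw [h2]
    exact hcomm i (Subgroup.commutator_mem_commutator (hx' a ha) (hy' a ha))

/-- From a strongly closed subgroup containing the hyperfocal subgroup up to `S`. -/
theorem chainTo_of_hyperfocal [Finite S] {p : ℕ} [Fact p.Prime] (hS : IsPGroup p S)
    (hF : F.IsSaturated p) {R : Subgroup Ω} (hRS : R ≤ S) (hRn : ∀ s ∈ S, ∀ t ∈ R, s * t * s⁻¹ ∈ R)
    (hR : F.hyperfocalSubgroup p ≤ R) (h : ChainTo F R) : ChainTo F S := by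
  have hn : (R.subgroupOf S).Normal := ⟨fun t ht s => hRn s s.2 t ht⟩
  have hfin : Finite (S ⧸ R.subgroupOf S) := inferInstance
  have hnil : Group.IsNilpotent (S ⧸ R.subgroupOf S) :=
    (hS.to_quotient (R.subgroupOf S)).isNilpotent
  obtain ⟨n, hnn⟩ := (Group.isSolvable_def (S ⧸ R.subgroupOf S)).1 inferInstance
  let U : ℕ → Subgroup Ω := fun k =>
    ((derivedSeries (S ⧸ R.subgroupOf S) k).comap (QuotientGroup.mk' (R.subgroupOf S))).map S.subtype
  have hRU : ∀ k, R ≤ U k := fun k x hx => by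
    refine ⟨⟨x, hRS hx⟩, ?_, rfl⟩
    show QuotientGroup.mk' (R.subgroupOf S) ⟨x, hRS hx⟩ ∈ derivedSeries (S ⧸ R.subgroupOf S) k
    rw [(mk'_eq_one_iff (R := R) ⟨x, hRS hx⟩).2 hx]
    exact one_mem _
  have hUS : ∀ k, U k ≤ S := fun k => Subgroup.map_subtype_le _
  have hUn : ∀ k, ∀ s ∈ S, ∀ t ∈ U k, s * t * s⁻¹ ∈ U k := by
    rintro k s hs _ ⟨t, ht, rfl⟩
    refine ⟨⟨s, hs⟩ * t * ⟨s, hs⟩⁻¹, ?_, rfl⟩
    exact (inferInstance : ((derivedSeries (S ⧸ R.subgroupOf S) k).comap
      (QuotientGroup.mk' (R.subgroupOf S))).Normal).conj_mem _ ht _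
  have hUsc : ∀ k, F.StronglyClosed (U k) := fun k =>
    H752.stronglyClosed_of_hyperfocal_le hS hF (hUS k) (hUn k) (hR.trans (hRU k))
  have hUc : ∀ k, ⁅U k, U k⁆ ≤ U (k + 1) := by
    intro k
    rw [Subgroup.commutator_le]
    rintro _ ⟨x, hx, rfl⟩ _ ⟨y, hy, rfl⟩
    refine ⟨⁅x, y⁆, ?_, rfl⟩
    show QuotientGroup.mk' (R.subgroupOf S) ⁅x, y⁆ ∈ derivedSeries (S ⧸ R.subgroupOf S) (k + 1)
    rw [map_commutatorElement]
    exact Subgroup.commutator_mem_commutator hx hy
  have hUle : ∀ k, U (k + 1) ≤ U k := fun k =>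
    Subgroup.map_mono (Subgroup.comap_mono (derivedSeries_antitone _ (Nat.le_succ k)))
  have hUn' : U n = R := by
    apply le_antisymm
    · rintro _ ⟨x, hx, rfl⟩
      have h1 : QuotientGroup.mk' (R.subgroupOf S) x ∈ derivedSeries (S ⧸ R.subgroupOf S) n := hx
      rw [hnn, Subgroup.mem_bot, mk'_eq_one_iff] at h1
      exact h1
    · exact hRU n
  have hU0 : U 0 = S := by
    apply le_antisymm (hUS 0)
    intro x hx
    exact ⟨⟨x, hx⟩, Subgroup.mem_top _, rfl⟩
  have key : ∀ j, j ≤ n → ChainTo F (U (n - j)) := by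
    intro j
    induction j with
    | zero => intro _; rw [Nat.sub_zero, hUn']; exact h
    | succ j ih =>
      intro hj
      have h1 := ih (by omega)
      have h2 : n - j = (n - (j + 1)) + 1 := by omega
      rw [h2] at h1
      exact h1.extend (hUsc _) (hUle _) (hUc _)
  have h1 := key n le_rfl
  rwa [Nat.sub_self, hU0] at h1

theorem hyperfocal_normal (F : FusionSystem S) (p : ℕ) :
    ∀ s ∈ S, ∀ t ∈ F.hyperfocalSubgroup p, s * t * s⁻¹ ∈ F.hyperfocalSubgroup p := by
  intro s hs t ht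
  exact (Subgroup.mem_normalizer_iff.1 (H747.le_normalizer_hyperfocal F p hs) t).1 ht

theorem chainTo_of_terminating {S : Subgroup Ω} {F : FusionSystem S} {p : ℕ}
    (h : F.HasTerminatingResidualSeries p) : Fact p.Prime → Finite S → IsPGroup p S → F.IsSaturated p →
    ChainTo F S := by
  induction h with
  | @trivial S F p hbot =>
    intro _ _ _ _
    subst hbot
    exact ⟨0, fun _ => ⊥, rfl, rfl, fun _ => StronglyClosed.bot, fun _ => le_rfl, fun _ => commutator_self_le ⊥⟩
  | @step S F E p D hE hD _ ih =>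
    intro hp hfin hS hF
    have hTS : E.hyperfocalSubgroup p ≤ S := H747.hyperfocal_le_base E p
    have hDch := ih hp (H802.finite_of_le hTS) (hS.to_le hTS) hD.1
    have hDn : D.IsNormalIn E p := H752.isNormalIn_of_pPowerIndex hS hE.1 hTS
      (hyperfocal_normal E p) le_rfl hD.1 hD.2
    have h1 : ChainTo E (E.hyperfocalSubgroup p) := chainTo_of_isInvariantIn hDn.1.2.2 hDch
    have h2 : ChainTo E S := chainTo_of_hyperfocal hS hE.1 hTS (hyperfocal_normal E p) le_rfl h1
    exact chainTo_of_isInvariantIn (isInvariantIn_of_isPPrimeResidual hS hF hE) h2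

/-- A saturated system whose alternating residual series terminates is constrained. -/
theorem isConstrained_of_terminating {p : ℕ} [hp : Fact p.Prime] [Finite S] (hS : IsPGroup p S)
    (hF : F.IsSaturated p) (h : F.HasTerminatingResidualSeries p) : F.IsConstrained p :=
  isConstrained_of_hasChain hS hF (chainTo_of_terminating h hp inferInstance hS hF)

end Cfsg.Agent.H759
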