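import Cfsg.Agent.H759.ResModel

/-!
# Models of residual subsystems, part 2 (helper759)
-/

set_option autoImplicit false

namespace Cfsg.Agent.H759

open Cfsg Cfsg.FusionSystem

section res

variable {Ω : Type*} [Group Ω] {S T : Subgroup Ω} {F : FusionSystem S} {G : Type*} [Group G] {ι : S →* G} {p : ℕ}

/-- The restriction of `ι : S →* G` to a map `T →* H`. -/
def resMap (ι : S →* G) (hTS : T ≤ S) (H : Subgroup G) (h : ∀ x : T, ι ⟨x, hTS x.2⟩ ∈ H) : T →* H :=
  (ι.comp (Subgroup.inclusion hTS)).codRestrict H h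

theorem coe_resMap (hTS : T ≤ S) (H : Subgroup G) (h : ∀ x : T, ι ⟨x, hTS x.2⟩ ∈ H) (x : T) :
    ((resMap ι hTS H h x : H) : G) = ι ⟨x, hTS x.2⟩ := rfl

theorem resMap_injective (hι : Function.Injective ι) (hTS : T ≤ S) (H : Subgroup G)
    (h : ∀ x : T, ι ⟨x, hTS x.2⟩ ∈ H) : Function.Injective (resMap ι hTS H h) := by
  intro a b hab
  have h1 := congrArg Subtype.val hab
  exact Subgroup.inclusion_injective hTS (hι h1)

theorem isSubsystemOf_of_resMap (hF : F.IsRealizedBy ι) {hTS : T ≤ S} {H : Subgroup G}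
    {h : ∀ x : T, ι ⟨x, hTS x.2⟩ ∈ H} {E : FusionSystem T} (hE : E.IsRealizedBy (resMap ι hTS H h)) :
    E.IsSubsystemOf F := by
  intro P φ hφ
  obtain ⟨hP, hφT⟩ := E.le_of_mem hφ
  obtain ⟨g, hg⟩ := (hE.2 P hP φ hφT).1 hφ
  exact (hF.2 P (hP.trans hTS) φ (fun x => hTS (hφT x))).2 ⟨g, fun x => congrArg Subtype.val (hg x)⟩

theorem exists_sylow_resMap [Finite G] [Fact p.Prime] {R : Sylow p G} (hR : (R : Subgroup G) = ι.range)
    {hTS : T ≤ S} {H : Subgroup G} [hn : H.Normal] {h : ∀ x : T, ι ⟨x, hTS x.2⟩ ∈ H}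
    (hT : ∀ s : S, ι s ∈ H → (s : Ω) ∈ T) :
    ∃ R' : Sylow p H, (R' : Subgroup H) = (resMap ι hTS H h).range := by
  have h1 := (H802.sylIn_top_of_sylow R).inf_normal (M := H) le_top (fun k _ m hm => hn.conj_mem m hm k)
  obtain ⟨R', hR'⟩ := h1.exists_sylow
  refine ⟨R', ?_⟩
  rw [hR', hR]
  ext y
  rw [Subgroup.mem_subgroupOf]
  constructor
  · rintro ⟨⟨s, hs⟩, -⟩
    have hsT : (s : Ω) ∈ T := hT s (by rw [hs]; exact y.2)
    exact ⟨⟨s, hsT⟩, Subtype.ext hs⟩
  · rintro ⟨x, rfl⟩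
    exact ⟨⟨_, rfl⟩, (resMap ι hTS H h x).2⟩

theorem isModel_resMap [Fact p.Prime] (hF : F.IsModel p G ι)
    {hTS : T ≤ S} {H : Subgroup G} [hn : H.Normal] {h : ∀ x : T, ι ⟨x, hTS x.2⟩ ∈ H}
    (hT : ∀ s : S, ι s ∈ H → (s : Ω) ∈ T) {E : FusionSystem T} (hE : E.IsRealizedBy (resMap ι hTS H h)) :
    E.IsModel p H (resMap ι hTS H h) := by
  obtain ⟨hfin, hreal, ⟨R, hR⟩, hC⟩ := hF
  refine ⟨inferInstance, hE, exists_sylow_resMap hR hT, ?_⟩
  exact H239.CharPLocal.CP.normal (p := p) (G := G) hC H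

/-- Automorphisms, through `resMap`. -/
theorem actSub_resMap {hTS : T ≤ S} {H : Subgroup G} {h : ∀ x : T, ι ⟨x, hTS x.2⟩ ∈ H}
    {P : Subgroup Ω} (hP : P ≤ T) {α : MulAut P} {g : G} (hg : g ∈ H)
    (hα : (α, g) ∈ actSub ι (hP.trans hTS)) :
    (α, (⟨g, hg⟩ : H)) ∈ actSub (resMap ι hTS H h) hP := by
  intro x
  exact Subtype.ext (hα x)

/-! ### The `p'`-residual -/

theorem mem_pEl_of_model [Fact p.Prime] (hF : F.IsModel p G ι) (x : S) :
    ι ⟨x, (le_refl S) x.2⟩ ∈ pEl p G := by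
  obtain ⟨hfin, hreal, ⟨R, hR⟩, hC⟩ := hF
  apply isPGroup_le_pEl R.isPGroup'
  rw [hR]
  exact ⟨_, rfl⟩

theorem isPPrimeResidual_of_resMap [Finite S] [Fact p.Prime] (hF : F.IsModel p G ι) {E : FusionSystem S}
    (hE : E.IsRealizedBy (resMap ι le_rfl (pEl p G) (mem_pEl_of_model hF))) : F.IsPPrimeResidual p E := by
  obtain ⟨hfin, hreal, ⟨R, hR⟩, hC⟩ := id hF
  obtain ⟨R', hR'⟩ := exists_sylow_resMap (hTS := le_refl S) (h := mem_pEl_of_model hF) hR (fun s _ => s.2)
  refine ⟨H781.isSaturated_of_isRealizedBy hE R' hR', ⟨isSubsystemOf_of_resMap hreal hE, ?_⟩, ?_⟩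
  · intro P hP
    rw [MonoidHom.map_closure]
    refine (Subgroup.closure_le _).2 ?_
    rintro _ ⟨⟨α, hα⟩, ⟨k, hk⟩, rfl⟩
    have hfP : Finite P := H802.finite_of_le hP
    rw [Subgroup.orderOf_mk] at hk
    obtain ⟨g, hg⟩ := exists_of_mem_autGroup hreal hP hα
    obtain ⟨g', hg', j, hj⟩ := exists_pElement hg hk
    exact mem_autGroup_of_actSub hE hP (actSub_resMap hP (mem_pEl hj) hg')
  · intro D hD hDi P φ hφ
    obtain ⟨hP, hφS⟩ := E.le_of_mem hφ
    obtain ⟨g, hg⟩ := (hE.2 P hP φ hφS).1 hφ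
    exact mem_hom_of_pEl hF hD hDi hP hφS g.2 fun x => congrArg Subtype.val (hg x)

theorem isPPrimeResidual_unique {E E' : FusionSystem S} (hE : F.IsPPrimeResidual p E)
    (hE' : F.IsPPrimeResidual p E') : E = E' := by
  apply fusionSystem_ext
  intro P
  exact Set.Subset.antisymm (hE.2.2 E' hE'.1 hE'.2.1 P) (hE'.2.2 E hE.1 hE.2.1 P)

theorem isModel_pPrimeResidual [Finite S] [Fact p.Prime] (hF : F.IsModel p G ι) {E : FusionSystem S}
    (hE : F.IsPPrimeResidual p E) : E.IsModel p (pEl p G) (resMap ι le_rfl (pEl p G) (mem_pEl_of_model hF)) := by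
  have hi := resMap_injective hF.2.1.1 le_rfl (pEl p G) (mem_pEl_of_model hF)
  have h1 := H781.pullback_isRealizedBy _ hi
  have h2 := isPPrimeResidual_unique hE (isPPrimeResidual_of_resMap hF h1)
  rw [h2]
  exact isModel_resMap hF (fun s _ => s.2) h1

/-! ### The `p`-residual -/

theorem mem_hyperfocal_iff [Finite G] [Fact p.Prime] (hF : F.IsRealizedBy ι) {R : Sylow p G}
    (hR : (R : Subgroup G) = ι.range) (x : Ω) :
    x ∈ F.hyperfocalSubgroup p ↔ ∃ hx : x ∈ S, ι ⟨x, hx⟩ ∈ pResidual p G := by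
  have hfac := H781.isFactorSystem_of_isRealizedBy hF
  have hC : (groupFusionSystem ι.range).hyperfocalSubgroup p = ι.range ⊓ pResidual p G := by
    rw [← hR]
    exact S5093.result p R
  obtain ⟨C', hC'⟩ := exists_pull' (hf := Subgroup.subtype_injective ι.range) (top_map_subtype ι.range)
    (groupFusionSystem ι.range)
  have hγ : Function.Injective (S.subtype.comp (MonoidHom.ofInjective hF.1).symm.toMonoidHom) :=
    (Subgroup.subtype_injective S).comp (MonoidHom.ofInjective hF.1).symm.injective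
  have hpush : IsPush hγ C' F := isPush_of_isFactorSystem_bot hfac hC'
  rw [hpush.hyperfocal_eq p]
  rw [hC'.hyperfocal_eq p] at hC
  have hmem : ∀ r : ι.range, r ∈ C'.hyperfocalSubgroup p ↔ (r : G) ∈ pResidual p G := by
    intro r
    constructor
    · intro hr
      have h1 : (r : G) ∈ (C'.hyperfocalSubgroup p).map ι.range.subtype := ⟨r, hr, rfl⟩
      rw [hC] at h1
      exact h1.2
    · intro hr
      have h1 : (r : G) ∈ ι.range ⊓ pResidual p G := ⟨r.2, hr⟩
      rw [← hC] at h1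
      obtain ⟨r', hr', he⟩ := h1
      have : r' = r := Subtype.ext he
      rw [← this]; exact hr'
  constructor
  · rintro ⟨r, hr, rfl⟩
    refine ⟨((MonoidHom.ofInjective hF.1).symm r).2, ?_⟩
    have h1 : ι ((MonoidHom.ofInjective hF.1).symm r) = r := by
      have := (MonoidHom.ofInjective hF.1).apply_symm_apply r
      exact congrArg Subtype.val this
    have h2 := (hmem r).1 hr
    rw [← h1] at h2
    exact h2
  · rintro ⟨hx, hx'⟩
    refine ⟨⟨ι ⟨x, hx⟩, ⟨_, rfl⟩⟩, (hmem _).2 hx', ?_⟩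
    have h1 : (MonoidHom.ofInjective hF.1).symm ⟨ι ⟨x, hx⟩, ⟨_, rfl⟩⟩ = ⟨x, hx⟩ := by
      rw [MulEquiv.symm_apply_eq]
      rfl
    exact congrArg Subtype.val h1

theorem mem_pResidual_of_model [Fact p.Prime] (hF : F.IsModel p G ι) (x : F.hyperfocalSubgroup p) :
    ι ⟨x, (H747.hyperfocal_le_base F p) x.2⟩ ∈ pResidual p G := by
  obtain ⟨hfin, hreal, ⟨R, hR⟩, hC⟩ := hF
  exact ((mem_hyperfocal_iff hreal hR x).1 x.2).2

theorem isPResidual_of_resMap [Finite S] [Fact p.Prime] (hF : F.IsModel p G ι)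
    {D : FusionSystem (F.hyperfocalSubgroup p)}
    (hD : D.IsRealizedBy (resMap ι (H747.hyperfocal_le_base F p) (pResidual p G) (mem_pResidual_of_model hF))) :
    F.IsPResidual p D := by
  obtain ⟨hfin, hreal, ⟨R, hR⟩, hC⟩ := id hF
  have hn : (pResidual p G).Normal := TwoFusion.PResidual.pResidual_normal p
  obtain ⟨R', hR'⟩ := exists_sylow_resMap (hTS := H747.hyperfocal_le_base F p) (h := mem_pResidual_of_model hF)
    hR (fun s hs => (mem_hyperfocal_iff hreal hR s).2 ⟨s.2, hs⟩)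
  refine ⟨H781.isSaturated_of_isRealizedBy hD R' hR', isSubsystemOf_of_resMap hreal hD, le_rfl, ?_⟩
  intro P hP
  unfold pResidual
  rw [MonoidHom.map_closure]
  refine (Subgroup.closure_le _).2 ?_
  rintro _ ⟨⟨α, hα⟩, hk, rfl⟩
  have hPS := hP.trans (H747.hyperfocal_le_base F p)
  have hfP : Finite P := H802.finite_of_le hPS
  rw [Set.mem_ofPred_eq, Subgroup.orderOf_mk] at hk
  obtain ⟨g, hg⟩ := exists_of_mem_autGroup hreal hPS hα
  obtain ⟨g', hg', hj⟩ := exists_pPrimeElement hg hk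
  exact mem_autGroup_of_actSub hD hP (actSub_resMap hP (TwoFusion.PResidual.mem_pResidual_of_coprime p hj) hg')

theorem isPResidual_unique [Finite S] [Fact p.Prime] (hS : IsPGroup p S)
    {D D' : FusionSystem (F.hyperfocalSubgroup p)} (hD : F.IsPResidual p D)
    (hD' : F.IsPResidual p D') : D = D' := by
  have hTS := H747.hyperfocal_le_base F p
  have hfT : Finite (F.hyperfocalSubgroup p) := H802.finite_of_le hTS
  apply fusionSystem_ext
  intro P
  exact Set.Subset.antisymm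
    (isSubsystemOf_of_pPowerIndex (hS.to_le hTS) hTS hD.1 hD.2.1 hD'.2 P)
    (isSubsystemOf_of_pPowerIndex (hS.to_le hTS) hTS hD'.1 hD'.2.1 hD.2 P)

theorem isModel_pResidual [Finite S] [Fact p.Prime] (hS : IsPGroup p S) (hF : F.IsModel p G ι)
    {D : FusionSystem (F.hyperfocalSubgroup p)} (hD : F.IsPResidual p D) :
    D.IsModel p (pResidual p G)
      (resMap ι (H747.hyperfocal_le_base F p) (pResidual p G) (mem_pResidual_of_model hF)) := by
  have hn : (pResidual p G).Normal := TwoFusion.PResidual.pResidual_normal p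
  have hi := resMap_injective hF.2.1.1 (H747.hyperfocal_le_base F p) (pResidual p G) (mem_pResidual_of_model hF)
  have h1 := H781.pullback_isRealizedBy _ hi
  have h2 := isPResidual_unique hS hD (isPResidual_of_resMap hF h1)
  rw [h2]
  obtain ⟨hfin, hreal, ⟨R, hR⟩, hC⟩ := id hF
  exact isModel_resMap hF (fun s hs => (mem_hyperfocal_iff hreal hR s).2 ⟨s.2, hs⟩) h1

end res

end Cfsg.Agent.H759
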